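import Cfsg.Agent.Omega.EH3.M22.Tau

/-!
# EH3, row `M22`: `w = 6`, `L` is irreducible on `V`, `|C_H(L)| = 1` or 3 (helper969)
-/

set_option autoImplicit false

namespace Cfsg.Agent.Omega.EH3.M22.Cen

open Cfsg Subgroup
open Cfsg.Agent.J4Type.Aut22 (D22 mem_D22_iff M22_le_D22)
open Cfsg.Agent.OddHalf.MM (El)
open Cfsg.Agent.Omega.EH3.M22.Irr

variable {H V : Type*} [Group H] [AddCommGroup V] [DistribMulAction H V] {f : V → V → ZMod 2}
  {A L : Subgroup H} {a : V} {w : ℕ}

theorem w_eq (I : Inp f A L a w) : w = 6 := by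
  have := I.nL
  obtain ⟨τ, hD, hk, -, -⟩ := Tau.exists_tau I.perf I.iso
  have hE : A.map τ ≤ D22 := by
    rintro _ ⟨x, -, rfl⟩
    exact hD x
  have hel : El (A.map τ) := by
    rintro _ ⟨x, hx, rfl⟩
    rw [← map_mul, I.elA x hx, map_one]
  have hcard : Nat.card (A.map τ) = Nat.card A := by
    symm
    apply Nat.card_congr
    refine Equiv.ofBijective (fun x : A => (⟨τ x, x, x.2, rfl⟩ : A.map τ)) ⟨?_, ?_⟩
    · intro x y hxy
      have h1 : τ x = τ y := congrArg Subtype.val hxy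
      have h2 : τ ((x : H)⁻¹ * y) = 1 := by
        rw [map_mul, map_inv, h1, inv_mul_cancel]
      have h3 := I.AL _ (mul_mem (inv_mem x.2) y.2) ((hk _).1 h2)
      exact Subtype.ext (inv_mul_eq_one.1 h3)
    · rintro ⟨_, x, hx, rfl⟩
      exact ⟨⟨x, hx⟩, rfl⟩
  have h1 := Sub32.card_le_32 hE hel
  rw [hcard, I.cardA] at h1
  have h2 := I.hw
  by_contra hne
  have h3 : 2 ^ 6 ≤ 2 ^ (w - 1) := Nat.pow_le_pow_right (by norm_num) (by omega)
  norm_num at h3
  omega

theorem cardV12 (I : Inp f A L a w) : Nat.card V = 2 ^ 12 := by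
  rw [I.cardV, w_eq I]

/-- an element of `L` acting trivially on a nonzero `L`-invariant subgroup is central -/
theorem nontriv (I : Inp f A L a w) {ρ : H} (hρ : ρ ∈ L) (hc : ∃ l ∈ L, ρ * l ≠ l * ρ)
    {U : AddSubgroup V} (hU : ∀ l ∈ L, ∀ u ∈ U, l • u ∈ U) (h0 : ∃ u ∈ U, u ≠ 0) :
    ∃ u ∈ U, ρ • u ≠ u := by
  by_contra hcon
  push Not at hcon
  have hn := I.nL
  let M : Subgroup H :=
    { carrier := {l | l ∈ L ∧ ∀ u ∈ U, l • u = u}
      one_mem' := ⟨one_mem L, fun u _ => one_smul H u⟩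
      mul_mem' := fun {x y} hx hy => ⟨mul_mem hx.1 hy.1, fun u hu => by
        rw [mul_smul, hy.2 u hu, hx.2 u hu]⟩
      inv_mem' := fun {x} hx => ⟨inv_mem hx.1, fun u hu => by
        rw [inv_smul_eq_iff, hx.2 u hu]⟩ }
  have hM : M = L := by
    apply eq_of_normal I.perf I.iso
    · exact fun x hx => hx.1
    · intro l hl m hm
      refine ⟨mul_mem (mul_mem hl hm.1) (inv_mem hl), fun u hu => ?_⟩
      rw [mul_smul, mul_smul, hm.2 _ (hU _ (inv_mem hl) u hu), smul_inv_smul]
    · obtain ⟨l, hl, hne⟩ := hc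
      exact ⟨ρ, ⟨hρ, hcon⟩, l, hl, hne⟩
  let C : AddSubgroup V :=
    { carrier := {v | ∀ l ∈ L, l • v = v}
      zero_mem' := fun l _ => smul_zero l
      add_mem' := fun {x y} hx hy l hl => by rw [smul_add, hx l hl, hy l hl]
      neg_mem' := fun {x} hx l hl => by rw [smul_neg, hx l hl] }
  have hC := I.irr C (by
    intro h u hu l hl
    have h1 : h⁻¹ * l * h ∈ L := by
      have := hn.conj_mem l hl h⁻¹
      rwa [inv_inv] at this
    have h2 := hu _ h1
    rw [mul_smul, mul_smul, inv_smul_eq_iff] at h2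
    exact h2) (by
    obtain ⟨u, hu, hne⟩ := h0
    refine ⟨u, fun l hl => ?_, hne⟩
    rw [← hM] at hl
    exact hl.2 u hu)
  obtain ⟨l, hl, hne⟩ := hc
  apply hne
  have h1 : l = 1 := I.faith l fun v => hC v l hl
  rw [h1, mul_one, one_mul]

variable [Finite V]

/-- the data of an element of order a power of 11 -/
theorem rho_card (I : Inp f A L a w) {ρ : H} {k : ℕ} (hρ : ρ ∈ L) (hc : ∃ l ∈ L, ρ * l ≠ l * ρ)
    (hk : ρ ^ 11 ^ k = 1) :
    Nat.card ((⊤ : AddSubgroup V) ⊓ (del ρ : V →+ V).ker : AddSubgroup V) = 4 ∧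
      Nat.card ((⊤ : AddSubgroup V).map (del ρ)) = 2 ^ 10 := by
  have h1 := count (U := (⊤ : AddSubgroup V)) hk (fun u _ => AddSubgroup.mem_top _)
  have h2 := card_map_del (V := V) ρ ⊤
  have hV : Nat.card (⊤ : AddSubgroup V) = 2 ^ 12 := by
    rw [← cardV12 I]
    exact Nat.card_congr (AddSubgroup.topEquiv (G := V)).toEquiv
  rw [hV] at h1 h2
  obtain ⟨j, hj, ej⟩ := pow_two_of_dvd (n := Nat.card ((⊤ : AddSubgroup V) ⊓ (del ρ : V →+ V).ker :
    AddSubgroup V)) (m := 12) (by rw [h2]; exact Dvd.intro_left _ rfl)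
  rw [ej] at h1 h2 ⊢
  have hlt : j ≠ 12 := by
    rintro rfl
    obtain ⟨u, -, hu⟩ := nontriv I hρ hc (U := ⊤) (fun _ _ _ _ => AddSubgroup.mem_top _)
      ⟨a, AddSubgroup.mem_top _, I.a0⟩
    have h3 : ((⊤ : AddSubgroup V) ⊓ (del ρ : V →+ V).ker : AddSubgroup V) = ⊤ := by
      apply AddSubgroup.eq_of_le_of_card_ge le_top
      rw [hV, ej]
    have h4 : u ∈ ((⊤ : AddSubgroup V) ⊓ (del ρ : V →+ V).ker : AddSubgroup V) := by
      rw [h3]
      exact AddSubgroup.mem_top _
    have h5 : ρ • u - u = 0 := h4.2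
    exact hu (sub_eq_zero.1 h5)
  have h10 := ten_le (by omega : j < 12) h1
  have hj2 : j = 2 := by
    have h6 : ∀ j < 3, 2 ^ 12 ≡ 2 ^ j [MOD 11] → j = 2 := by decide
    exact h6 j (by omega) h1
  rw [hj2] at h2 ⊢
  refine ⟨by norm_num, ?_⟩
  omega

/-- `L` is irreducible on `V` -/
theorem irrL [Finite H] (I : Inp f A L a w) (U : AddSubgroup V) (hU : ∀ l ∈ L, ∀ u ∈ U, l • u ∈ U)
    (h0 : ∃ u ∈ U, u ≠ 0) : ∀ v, v ∈ U := by
  have hn := I.nL
  obtain ⟨ρ, hρ, hc, k, hk⟩ := exists_rho I.iso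
  obtain ⟨-, h10⟩ := rho_card I hρ hc hk
  -- `[V, ρ] ≤ U`
  have hδ : ∀ v, ρ • v - v ∈ U := by
    have h1 := count hk (hU ρ hρ)
    have h2 := card_map_del ρ U
    obtain ⟨i, hi, ei⟩ := pow_two_of_dvd (n := Nat.card U) (m := 12) (by
      rw [← cardV12 I]
      exact AddSubgroup.card_addSubgroup_dvd_card U)
    rw [ei] at h1 h2
    obtain ⟨j, hj, ej⟩ := pow_two_of_dvd (n := Nat.card (U ⊓ (del ρ : V →+ V).ker : AddSubgroup V))
      (m := i) (by rw [h2]; exact Dvd.intro_left _ rfl)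
    rw [ej] at h1 h2
    have hlt : j ≠ i := by
      rintro rfl
      obtain ⟨u, hu1, hu⟩ := nontriv I hρ hc hU h0
      have h3 : (U ⊓ (del ρ : V →+ V).ker : AddSubgroup V) = U := by
        apply AddSubgroup.eq_of_le_of_card_ge inf_le_left
        rw [ei, ej]
      rw [← h3] at hu1
      have h5 : ρ • u - u = 0 := hu1.2
      exact hu (sub_eq_zero.1 h5)
    have h11 := ten_le (by omega : j < i) h1
    have h12 : 2 ^ 10 ≤ Nat.card (U.map (del ρ)) := by
      obtain ⟨d, rfl⟩ := Nat.exists_eq_add_of_le h11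
      rw [pow_add, pow_add, mul_assoc, mul_comm (Nat.card _)] at h2
      have h13 := Nat.eq_of_mul_eq_mul_left (by positivity) h2
      rw [← h13]
      exact Nat.le_mul_of_pos_right _ (by positivity)
    have h14 : U.map (del ρ) = (⊤ : AddSubgroup V).map (del ρ) := by
      apply AddSubgroup.eq_of_le_of_card_ge (AddSubgroup.map_mono le_top)
      rw [h10]
      exact h12
    intro v
    have h15 : del ρ v ∈ (⊤ : AddSubgroup V).map (del ρ) := ⟨v, AddSubgroup.mem_top _, rfl⟩
    rw [← h14] at h15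
    obtain ⟨u, hu, e⟩ := h15
    have e' : ρ • u - u = ρ • v - v := e
    rw [← e']
    exact sub_mem (hU ρ hρ u hu) hu
  -- all of `L`
  let M : Subgroup H :=
    { carrier := {l | l ∈ L ∧ ∀ v, l • v - v ∈ U}
      one_mem' := ⟨one_mem L, fun v => by rw [one_smul, sub_self]; exact U.zero_mem⟩
      mul_mem' := fun {x y} hx hy => ⟨mul_mem hx.1 hy.1, fun v => by
        have e : (x * y) • v - v = x • (y • v - v) + (x • v - v) := by
          rw [mul_smul, smul_sub]; abel
        rw [e]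
        exact U.add_mem (hU x hx.1 _ (hy.2 v)) (hx.2 v)⟩
      inv_mem' := fun {x} hx => ⟨inv_mem hx.1, fun v => by
        have e : x⁻¹ • v - v = -(x • (x⁻¹ • v) - x⁻¹ • v) := by
          rw [smul_inv_smul]; abel
        rw [e]
        exact U.neg_mem (hx.2 _)⟩ }
  have hM : M = L := by
    apply eq_of_normal I.perf I.iso
    · exact fun x hx => hx.1
    · intro l hl m hm
      refine ⟨mul_mem (mul_mem hl hm.1) (inv_mem hl), fun v => ?_⟩
      have e : (l * m * l⁻¹) • v - v = l • (m • (l⁻¹ • v) - l⁻¹ • v) := by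
        rw [smul_sub, mul_smul, mul_smul, smul_inv_smul]
      rw [e]
      exact hU l hl _ (hm.2 _)
    · obtain ⟨l, hl, hne⟩ := hc
      exact ⟨ρ, ⟨hρ, hδ⟩, l, hl, hne⟩
  let D : AddSubgroup V := AddSubgroup.closure {x | ∃ l ∈ L, ∃ v : V, x = l • v - v}
  have hDU : D ≤ U := by
    rw [AddSubgroup.closure_le]
    rintro x ⟨l, hl, v, rfl⟩
    rw [← hM] at hl
    exact hl.2 v
  have hD := I.irr D (by
    intro h
    have h1 : D ≤ D.comap (DistribSMul.toAddMonoidHom V h) := by
      rw [AddSubgroup.closure_le]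
      rintro x ⟨l, hl, v, rfl⟩
      show h • (l • v - v) ∈ D
      apply AddSubgroup.subset_closure
      refine ⟨h * l * h⁻¹, hn.conj_mem l hl h, h • v, ?_⟩
      rw [smul_sub, mul_smul, mul_smul, inv_smul_smul]
    intro u hu
    exact h1 hu) (by
    obtain ⟨u, -, hu⟩ := nontriv I hρ hc (U := ⊤) (fun _ _ _ _ => AddSubgroup.mem_top _)
      ⟨a, AddSubgroup.mem_top _, I.a0⟩
    exact ⟨ρ • u - u, AddSubgroup.subset_closure ⟨ρ, hρ, u, rfl⟩, fun e => hu (sub_eq_zero.1 e)⟩)
  exact fun v => hDU (hD v)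

/-- an element of `C_H(L)` fixing a nonzero vector is trivial -/
theorem semi_C [Finite H] (I : Inp f A L a w) {x : H} (hx : ∀ l ∈ L, x * l = l * x) {v : V}
    (hv : v ≠ 0) (h : x • v = v) : x = 1 := by
  let U : AddSubgroup V :=
    { carrier := {v | x • v = v}
      zero_mem' := smul_zero x
      add_mem' := fun {u v} (hu : x • u = u) (hv : x • v = v) => by
        show x • (u + v) = u + v
        rw [smul_add, hu, hv]
      neg_mem' := fun {u} (hu : x • u = u) => by
        show x • (-u) = -u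
        rw [smul_neg, hu] }
  have h1 := irrL I U (by
    intro l hl u hu
    show x • l • u = l • u
    have hu' : x • u = u := hu
    rw [← mul_smul, hx l hl, mul_smul, hu']) ⟨v, h, hv⟩
  exact I.faith x h1

/-- `|C_H(L)| = 1` or 3 -/
theorem card_C [Finite H] (I : Inp f A L a w) :
    Nat.card (centralizer (L : Set H)) = 1 ∨ Nat.card (centralizer (L : Set H)) = 3 := by
  obtain ⟨ρ, hρ, hc, k, hk⟩ := exists_rho I.iso
  obtain ⟨h4, -⟩ := rho_card I hρ hc hk
  have hcomm : ∀ x : centralizer (L : Set H), ∀ l ∈ L, (x : H) * l = l * x := fun x l hl =>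
    (mem_centralizer_iff.1 x.2 l hl).symm
  set K4 : AddSubgroup V := (⊤ : AddSubgroup V) ⊓ (del ρ : V →+ V).ker with hK4
  -- a nonzero fixed vector
  obtain ⟨v0, hv0, hne⟩ : ∃ v0 ∈ K4, v0 ≠ 0 := by
    by_contra hcon
    push Not at hcon
    have h1 : K4 = ⊥ := by
      rw [eq_bot_iff]
      intro v hv
      exact AddSubgroup.mem_bot.2 (hcon v hv)
    rw [h1, AddSubgroup.card_bot] at h4
    omega
  have hfix : ∀ x : centralizer (L : Set H), (x : H) • v0 ∈ K4 := by
    intro x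
    refine ⟨AddSubgroup.mem_top _, ?_⟩
    show ρ • (x : H) • v0 - (x : H) • v0 = 0
    have h1 : ρ • v0 - v0 = 0 := hv0.2
    rw [← mul_smul, ← hcomm x ρ hρ, mul_smul, sub_eq_zero.1 h1, sub_self]
  have hinj : Function.Injective
      (fun x : centralizer (L : Set H) => (⟨⟨(x : H) • v0, hfix x⟩, fun e => hne (by
        have e' : (x : H) • v0 = 0 := congrArg Subtype.val e
        exact (smul_eq_zero_iff_eq _).1 e')⟩ : {y : K4 // y ≠ 0})) := by
    intro x y hxy
    have h1 : (x : H) • v0 = (y : H) • v0 := congrArg (fun t : {y : K4 // y ≠ 0} => ((t : K4) : V)) hxy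
    have h2 : ((x : H)⁻¹ * y) • v0 = v0 := by
      rw [mul_smul, ← h1, inv_smul_smul]
    have h3 := semi_C I (x := (x : H)⁻¹ * y) (fun l hl => by
      have k1 := hcomm (x⁻¹ * y) l hl
      exact k1) hne h2
    exact Subtype.ext (inv_mul_eq_one.1 h3)
  have hle : Nat.card (centralizer (L : Set H)) ≤ 3 := by
    have h1 := Nat.card_le_card_of_injective _ hinj
    have h2 : Nat.card {y : K4 // y ≠ 0} = 3 := by
      have := Fintype.ofFinite K4
      classical
      rw [Nat.card_eq_fintype_card, Fintype.card_subtype_compl, Fintype.card_subtype_eq,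
        ← Nat.card_eq_fintype_card, h4]
    omega
  have hpos : 0 < Nat.card (centralizer (L : Set H)) := Nat.card_pos
  have h2 : Nat.card (centralizer (L : Set H)) ≠ 2 := by
    intro h2
    have : Fact (Nat.Prime 2) := ⟨Nat.prime_two⟩
    obtain ⟨x, hx⟩ := exists_prime_orderOf_dvd_card' 2 (G := centralizer (L : Set H)) (by rw [h2])
    have hxx : (x : H) * x = 1 := by
      have h3 : x ^ 2 = 1 := by rw [← hx]; exact pow_orderOf_eq_one x
      rw [pow_two] at h3
      exact congrArg Subtype.val h3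
    have hx1 : (x : H) ≠ 1 := by
      intro e
      have e' : x = 1 := Subtype.ext e
      rw [e', orderOf_one] at hx
      omega
    apply hx1
    by_cases hs : v0 + (x : H) • v0 = 0
    · apply semi_C I (hcomm x) hne
      have h3 : (x : H) • v0 = -v0 := by
        rw [eq_neg_iff_add_eq_zero, add_comm]
        exact hs
      rw [h3, neg_eq_iff_add_eq_zero]
      exact I.two v0
    · apply semi_C I (hcomm x) hs
      rw [smul_add, ← mul_smul, hxx, one_smul, add_comm]
  omega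

end Cfsg.Agent.Omega.EH3.M22.Cen
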