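import Mathlib.Data.Nat.Notation

/-!
# EH3, row `M22`: packed permutations (helper969)
-/

set_option autoImplicit false

namespace Cfsg.Agent.Omega.EH3.M22.Data

/-- 14 elements of `M22`: the images of `{1, 2}` have a nonsingular Gram matrix -/
def gL : List ℕ := [
  984818244535754528103549039458486304,
  978849776793746787003199209847952512,
  964917275015465983328979098502060288,
  959488121765741971576315097446923328,
  958680300350658557014491635208400000,
  962181843392822456857993199022910752,
  977873459788756747090460192959189376,
  972831183423135738047482258258969824,
  981548855918831466312872223757817952,
  975432048167086924000780457170358592,
  968529989081359269986843285947794848,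
  980230174638112935304648454281237536,
  980941609419512200297601387847928160,
  964575877489034909648712673258719680]

/-- their inverses -/
def gI : List ℕ := [
  984818244535754528103549039458486304,
  978037031292836315431100558662063360,
  958145249025361420566300581352940160,
  969140878942787535055494721949074528,
  967283780959055205374245447744968960,
  971146663481645628595034434090220960,
  963660839285016846054362667808230688,
  977753577639329575372475643948442720,
  958615858314131288954670734711497344,
  975586692544701069329655715265364096,
  967240365663388409094893161940661408,
  974006555416635264846015297857497120,
  982989123780368889198205883899040064,
  966482331998639978332145482857764000]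

/-- elements of `N(W)` in `M22` mapping the second and third tetrad to each pair of tetrads -/
def nL : List ℕ := [
  962535585921315321034233797611684928,
  962185689677430337975636846473349152,
  962384594219683655028362146471412800,
  962293394058910103839053343018813472,
  972560062960302233497009465070158912,
  972770454313256898457466314500375616,
  972889687204525603450923042908374080,
  964974399875705615325766390902981696,
  964903279098970443474231158672458816,
  970089251429018547405046440970617920]

/-- an element of `M22` mapping 1 to 4 and 2 to 6 -/
def e0P : ℕ := 976585783686182297604407674404313216

/-- the rows of the Gram matrix -/
def gM : List ℕ := [9718, 14317, 15539, 15858, 11213, 10191, 15803, 15231, 15099, 11698, 14959, 14300, 3534, 4095]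

/-- the rows of its inverse -/
def bM : List ℕ := [4600, 3748, 1458, 12321, 13541, 11551, 8593, 13399, 12389, 14338, 10422, 9762, 9113, 8184]

end Cfsg.Agent.Omega.EH3.M22.Data
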