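import Cfsg.Agent.Omega.EH3.M22.Perm

/-!
# EH3, row `M22`: the Gram matrix and the elementary abelian subgroups of order 32 (helper969)
-/

set_option autoImplicit false
set_option Elab.async false

namespace Cfsg.Agent.Omega.EH3.M22.Gram

open Cfsg Cfsg.Agent.KFacts.MM.El Cfsg.Agent.KFacts.MM.Data Cfsg.Agent.KFacts.MM.DataO
open Cfsg.Agent.KFacts.MM.DataT Cfsg.Agent.KFacts.MM.Sub Cfsg.Agent.KFacts.MM.Int
open Cfsg.Agent.KFacts.MM.El16 Cfsg.Agent.KFacts.MM.Cent Cfsg.Agent.KFacts.MM.OutP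
open Cfsg.Agent.KFacts.MM.OutT Cfsg.Agent.KFacts.MM.OutN Cfsg.Agent.KFacts.MM.OutS
open Cfsg.Agent.SporadicA.GolayBase Cfsg.Agent.SporadicA.GolayPerm
open Cfsg.Agent.J4Type.Aut22 (D22 mem_D22_iff M22_le_D22 mem_M22_iff_D22 card_D22)
open Cfsg.Agent.OddHalf.MM (Nrm Cen El)
open Cfsg.Agent.Omega.EH3.M22.Data Cfsg.Agent.Omega.EH3.M22.Perm

/-! ### The double coset -/

/-- the representative -/
noncomputable def g0 : Equiv.Perm GolayPt := pm e0P

theorem g0_ok : ok22 e0P = true ∧ papp e0P 1 = 4 ∧ papp e0P 2 = 6 := by decide +kernel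

theorem g0_mem : g0 ∈ Spor.M22 := (mem_of_ok22 g0_ok.1).2

theorem g0_1 : val g0 1 = 4 := by
  unfold g0
  rw [val_pm (mem_of_ok22 g0_ok.1).1 (by norm_num), g0_ok.2.1]

theorem g0_2 : val g0 2 = 6 := by
  unfold g0
  rw [val_pm (mem_of_ok22 g0_ok.1).1 (by norm_num), g0_ok.2.2]

/-- the test for a pair of points -/
def ptst (i j : ℕ) : Bool :=
  !(!Nat.beq (T i) 5 && (!Nat.beq (T j) 5 && !Nat.beq (T i) (T j))) || nL.any fun n => WL.any fun w =>
    (Nat.beq (papp w (papp n 4)) i && Nat.beq (papp w (papp n 6)) j) ||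
    (Nat.beq (papp w (papp n 4)) j && Nat.beq (papp w (papp n 6)) i)

theorem ptst_all : (pts.all fun i => pts.all fun j => ptst i j) = true := by decide +kernel

theorem nL_all : (nL.all fun n => ok22 n && cj [n] WL) = true := by decide +kernel

theorem exists_rep {g : Equiv.Perm GolayPt} (h : c160 g) : ∃ y ∈ Spor.M22, Nrm y W ∧
    ((val y 4 = val g 1 ∧ val y 6 = val g 2) ∨ (val y 4 = val g 2 ∧ val y 6 = val g 1)) := by
  have k1 := List.all_eq_true.1 (List.all_eq_true.1 ptst_all _ (mem_pts (val_lt g 1))) _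
    (mem_pts (val_lt g 2))
  unfold ptst at k1
  have nb : ∀ {a c : ℕ}, a ≠ c → Nat.beq a c = false := by
    intro a c hac
    rw [Bool.eq_false_iff]
    intro e
    exact hac (Nat.eq_of_beq_eq_true e)
  rw [nb h.1, nb h.2.1, nb h.2.2, Bool.not_false, Bool.and_true, Bool.and_true, Bool.not_true,
    Bool.false_or] at k1
  obtain ⟨n, hn, k2⟩ := List.any_eq_true.1 k1
  obtain ⟨w, hw, k3⟩ := List.any_eq_true.1 k2
  have k4 := List.all_eq_true.1 nL_all n hn
  rw [Bool.and_eq_true] at k4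
  obtain ⟨hp, hM⟩ := mem_of_ok22 k4.1
  have hwW : pm w ∈ W := ⟨w, hw, rfl⟩
  have hv : ∀ i, i < 24 → val (pm w * pm n) i = papp w (papp n i) := by
    intro i hi
    rw [val_mul, val_pm hp hi, val_pm (pW hw) (papp_lt hp hi)]
  refine ⟨pm w * pm n, mul_mem (W_le22 hwW) hM, nrm_mul (nrm_P (W_le_P hwW))
    (KFacts.MM.Tr.nrm_of_cj hp k4.2), ?_⟩
  rw [hv 4 (by norm_num), hv 6 (by norm_num)]
  rw [Bool.or_eq_true, Bool.and_eq_true, Bool.and_eq_true] at k3
  rcases k3 with k3 | k3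
  · exact Or.inl ⟨Nat.eq_of_beq_eq_true k3.1, Nat.eq_of_beq_eq_true k3.2⟩
  · exact Or.inr ⟨Nat.eq_of_beq_eq_true k3.1, Nat.eq_of_beq_eq_true k3.2⟩

theorem val_inv {g : Equiv.Perm GolayPt} {i j : ℕ} (hi : i < 24) (h : val g i = j) : val g⁻¹ j = i := by
  rw [← h, ← val_mul, inv_mul_cancel, val_one hi]

/-- `{g : c160 g}` is one double coset of `N(W)` in `M22` -/
theorem dbl {g : Equiv.Perm GolayPt} (hg : g ∈ Spor.M22) (h : c160 g) :
    ∃ y ∈ Spor.M22, Nrm y W ∧ ∃ m ∈ Spor.M22, Nrm m W ∧ g = y * g0 * m := by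
  obtain ⟨y, hy, hN, h1⟩ := exists_rep h
  have hm : g0⁻¹ * y⁻¹ * g ∈ Spor.M22 := mul_mem (mul_mem (inv_mem g0_mem) (inv_mem hy)) hg
  refine ⟨y, hy, hN, g0⁻¹ * y⁻¹ * g, hm, ?_, by group⟩
  apply nrm_of_duad hm
  rw [val_mul, val_mul, val_mul, val_mul]
  rcases h1 with h1 | h1
  · left
    rw [val_inv (by norm_num) h1.1, val_inv (by norm_num) h1.2]
    exact ⟨val_inv (by norm_num) g0_1, val_inv (by norm_num) g0_2⟩
  · right
    rw [val_inv (by norm_num) h1.1, val_inv (by norm_num) h1.2]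
    exact ⟨val_inv (by norm_num) g0_2, val_inv (by norm_num) g0_1⟩

/-! ### The Gram matrix -/

/-- the test for a word -/
def c160t (l : List ℕ) : Bool :=
  !Nat.beq (T (ev l 1)) 5 && (!Nat.beq (T (ev l 2)) 5 && !Nat.beq (T (ev l 1)) (T (ev l 2)))

theorem c160_iff {l : List ℕ} (hl : okl l = true) : c160 (pr l) ↔ c160t l = true := by
  unfold c160 c160t
  rw [val_pr hl (by norm_num), val_pr hl (by norm_num), Bool.and_eq_true, Bool.and_eq_true,
    Bool.not_eq_true', Bool.not_eq_true', Bool.not_eq_true']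
  have nb : ∀ {a c : ℕ}, Nat.beq a c = false ↔ a ≠ c := by
    intro a c
    rw [Bool.eq_false_iff]
    exact ⟨fun h e => h (by rw [e]; exact Nat.beq_refl _), fun h e => h (Nat.eq_of_beq_eq_true e)⟩
  rw [nb, nb, nb]

/-- the elements -/
noncomputable def gg (i : Fin 14) : Equiv.Perm GolayPt := pm (gL.getD i 0)

theorem gL_all : ∀ i : Fin 14, ok22 (gL.getD i 0) = true ∧ isPerm (gI.getD i 0) = true ∧
    weq [gI.getD i 0, gL.getD i 0] [] = true := by decide +kernel

theorem gg_mem (i : Fin 14) : gg i ∈ Spor.M22 := (mem_of_ok22 (gL_all i).1).2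

theorem gg_inv (i : Fin 14) : (gg i)⁻¹ = pm (gI.getD i 0) := by
  obtain ⟨h1, h2, h3⟩ := gL_all i
  have h4 := pr_of_weq (okl2 h2 (mem_of_ok22 h1).1) rfl h3
  rw [pr_two, pr_nil] at h4
  exact (eq_inv_of_mul_eq_one_left h4).symm

/-- the Gram matrix -/
def Gm (i j : Fin 14) : ZMod 2 := if (gM.getD i 0).testBit j then 1 else 0

/-- its inverse -/
def Bm (i j : Fin 14) : ZMod 2 := if (bM.getD i 0).testBit j then 1 else 0

theorem gram_tst : ∀ i j : Fin 14, c160t [gI.getD i 0, gL.getD j 0] = (gM.getD i 0).testBit j := by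
  decide +kernel

theorem gram_inv : ∀ i k : Fin 14, (∑ j : Fin 14, Bm j k * Gm i j) = if i = k then 1 else 0 := by
  decide +kernel

theorem gram_iff (i j : Fin 14) : c160 ((gg i)⁻¹ * gg j) ↔ (gM.getD i 0).testBit j = true := by
  rw [gg_inv, ← gram_tst, ← c160_iff (okl2 (gL_all i).2.1 (mem_of_ok22 (gL_all j).1).1), pr_two]
  rfl

/-- vectors with this Gram matrix -/
theorem card_ge {V : Type*} [AddCommGroup V] [Finite V] (f : V → V → ZMod 2)
    (hadd : ∀ u v w, f u (v + w) = f u v + f u w) (v : Fin 14 → V)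
    (h : ∀ i j, f (v i) (v j) = Gm i j) : 2 ^ 14 ≤ Nat.card V := by
  let F : Fin 14 → V →+ ZMod 2 := fun i => AddMonoidHom.mk' (f (v i)) (hadd _)
  let u : Fin 14 → V := fun k => ∑ j : Fin 14, if Bm j k = 1 then v j else 0
  have h01 : ∀ x : ZMod 2, x = 0 ∨ x = 1 := by decide
  have hu : ∀ i k, F i (u k) = if i = k then 1 else 0 := by
    intro i k
    show F i (∑ j : Fin 14, if Bm j k = 1 then v j else 0) = _
    rw [map_sum, ← gram_inv i k]
    apply Finset.sum_congr rfl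
    intro j _
    rcases h01 (Bm j k) with e | e
    · rw [e, if_neg (by decide), map_zero, zero_mul]
    · rw [e, if_pos rfl, one_mul]
      exact h i j
  let Φ : V → (Fin 14 → ZMod 2) := fun x i => F i x
  have hs : Function.Surjective Φ := by
    intro t
    refine ⟨∑ k : Fin 14, if t k = 1 then u k else 0, ?_⟩
    funext i
    show F i (∑ k : Fin 14, if t k = 1 then u k else 0) = t i
    rw [map_sum]
    have e : ∀ k : Fin 14, F i (if t k = 1 then u k else 0) = if k = i then t i else 0 := by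
      intro k
      rcases h01 (t k) with e | e
      · rw [e, if_neg (by decide), map_zero]
        by_cases hki : k = i
        · rw [if_pos hki, ← hki, e]
        · rw [if_neg hki]
      · rw [e, if_pos rfl, hu]
        by_cases hki : k = i
        · rw [if_pos hki, if_pos hki.symm, ← hki, e]
        · rw [if_neg hki, if_neg (fun h => hki h.symm)]
    rw [Finset.sum_congr rfl fun k _ => e k, Finset.sum_ite_eq' Finset.univ i fun _ => t i]
    simp
  have h1 := Nat.card_le_card_of_surjective Φ hs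
  rw [Nat.card_fun] at h1
  simpa using h1

end Cfsg.Agent.Omega.EH3.M22.Gram
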