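import Mathlib
import Cfsg.Agent.SporadicA.MathieuRecog
import Cfsg.Agent.OddHalf.MM.Sheet

/-!
# EH3, row `M22`: irreducibility by an element of order 11 (helper969)

`Inp` : the input (abstract linear setting). `card_CH`: `C_H(L)` has order 1 or 3.
-/

set_option autoImplicit false

namespace Cfsg.Agent.Omega.EH3.M22.Irr

open Cfsg Subgroup

/-- the input -/
structure Inp {H V : Type*} [Group H] [AddCommGroup V] [DistribMulAction H V] (f : V → V → ZMod 2)
    (A L : Subgroup H) (a : V) (w : ℕ) : Prop where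
  two : ∀ v : V, v + v = 0
  faith : ∀ h : H, (∀ v : V, h • v = v) → h = 1
  irr : ∀ U : AddSubgroup V, (∀ h : H, ∀ u ∈ U, h • u ∈ U) → (∃ u ∈ U, u ≠ 0) → ∀ v, v ∈ U
  fadd : ∀ u v v', f u (v + v') = f u v + f u v'
  finv : ∀ (h : H) (u v : V), f (h • u) (h • v) = f u v
  fnd : ∀ u, (∀ v, f u v = 0) → u = 0
  hw : 6 ≤ w
  cardV : Nat.card V = 2 ^ (2 * w)
  elA : ∀ x ∈ A, x * x = 1
  cardA : Nat.card A = 2 ^ (w - 1)
  a0 : a ≠ 0
  aA : ∀ x ∈ A, x • a = a
  CA : ∀ v : V, (∀ x ∈ A, x • v = v) → v = 0 ∨ v = a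
  semi : ∀ v, f a v = 1 → ∀ x ∈ A, x • v = v → x = 1
  nL : L.Normal
  perf : ⁅L, L⁆ = L
  iso : Spor.IsoM22 (L ⧸ center L)
  AL : ∀ x ∈ A, (∀ l ∈ L, x * l = l * x) → x = 1

section

variable {H V : Type*} [Group H] [AddCommGroup V] [DistribMulAction H V] {f : V → V → ZMod 2}
  {A L : Subgroup H} {a : V} {w : ℕ}

/-! ### Normal subgroups of `L` -/

/-- a subgroup `M` of `L` normalised by `L` and not central in `L` is `L` -/
theorem eq_of_normal (perf : ⁅L, L⁆ = L) (iso : Spor.IsoM22 (L ⧸ center L)) {M : Subgroup H}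
    (hM : M ≤ L) (hn : ∀ l ∈ L, ∀ m ∈ M, l * m * l⁻¹ ∈ M)
    (hc : ∃ m ∈ M, ∃ l ∈ L, m * l ≠ l * m) : M = L := by
  obtain ⟨e⟩ := iso
  have hs : IsSimpleGroup (L ⧸ center L) :=
    have := SporadicA.MathieuRecog.simple_M22
    e.isSimpleGroup
  have hN : (M.subgroupOf L).Normal := ⟨fun n hn' g => hn g g.2 n hn'⟩
  have hNm : ((M.subgroupOf L).map (QuotientGroup.mk' (center L))).Normal :=
    hN.map _ (QuotientGroup.mk'_surjective _)
  rcases hNm.eq_bot_or_eq_top with h | h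
  · exfalso
    obtain ⟨m, hm, l, hl, hne⟩ := hc
    rw [Subgroup.map_eq_bot_iff, QuotientGroup.ker_mk'] at h
    have h1 : (⟨m, hM hm⟩ : L) ∈ center L := h hm
    have h2 := mem_center_iff.1 h1 ⟨l, hl⟩
    exact hne (congrArg Subtype.val h2).symm
  · apply le_antisymm hM
    rw [← perf, commutator_le]
    have key : ∀ l : L, ∃ n ∈ M, ∃ c : L, (∀ y ∈ L, y * (c : H) = c * y) ∧ (l : H) = n * c := by
      intro l
      have h1 : (QuotientGroup.mk' (center L)) l ∈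
          (M.subgroupOf L).map (QuotientGroup.mk' (center L)) := by
        rw [h]
        trivial
      obtain ⟨n, hn', h2⟩ := h1
      have h3 : n⁻¹ * l ∈ center L := QuotientGroup.eq.1 h2
      refine ⟨n, hn', n⁻¹ * l, fun y hy => ?_, ?_⟩
      · exact congrArg Subtype.val (mem_center_iff.1 h3 ⟨y, hy⟩)
      · show (l : H) = n * ((n : H)⁻¹ * l)
        group
    intro l hl l' hl'
    obtain ⟨n, hn1, c, hc1, e1⟩ := key ⟨l, hl⟩
    obtain ⟨n', hn2, c', hc2, e2⟩ := key ⟨l', hl'⟩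
    have e1 : l = n * c := e1
    have e2 : l' = n' * c' := e2
    have h1 : n * n' * n⁻¹ * n'⁻¹ ∈ M :=
      mul_mem (mul_mem (mul_mem hn1 hn2) (inv_mem hn1)) (inv_mem hn2)
    have h2 : l * l' * l⁻¹ * l'⁻¹ = n * n' * n⁻¹ * n'⁻¹ := by
      have k1 : (c : H) * n' = n' * c := (hc1 n' (hM hn2)).symm
      have k2 : (c' : H) * n⁻¹ = n⁻¹ * c' := (hc2 n⁻¹ (inv_mem (hM hn1))).symm
      have k3 : (c : H) * c' = c' * c := (hc1 c' c'.2).symm
      calc l * l' * l⁻¹ * l'⁻¹ = n * c * (n' * c') * (n * c)⁻¹ * (n' * c')⁻¹ := by rw [e1, e2]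
        _ = n * (c * n') * c' * (c : H)⁻¹ * n⁻¹ * (c' : H)⁻¹ * n'⁻¹ := by group
        _ = n * n' * (c * c') * (c : H)⁻¹ * n⁻¹ * (c' : H)⁻¹ * n'⁻¹ := by rw [k1]; group
        _ = n * n' * (c' * n⁻¹) * (c' : H)⁻¹ * n'⁻¹ := by rw [k3]; group
        _ = n * n' * n⁻¹ * n'⁻¹ := by rw [k2]; group
    rw [commutatorElement_def, h2]
    exact h1

/-- a noncentral 11-element of `L` -/
theorem exists_rho [Finite H] (iso : Spor.IsoM22 (L ⧸ center L)) :
    ∃ ρ ∈ L, (∃ l ∈ L, ρ * l ≠ l * ρ) ∧ ∃ k : ℕ, ρ ^ 11 ^ k = 1 := by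
  obtain ⟨e⟩ := iso
  have : Fact (Nat.Prime 11) := ⟨by norm_num⟩
  have h1 : 11 ∣ (center L).index := by
    rw [Subgroup.index_eq_card, Nat.card_congr e.toEquiv, SporadicA.MathieuRecog.card_M22]
    norm_num
  obtain ⟨P⟩ : Nonempty (Sylow 11 L) := inferInstance
  have h2 : ¬ (P : Subgroup L) ≤ center L := by
    intro h
    have h3 := Subgroup.index_dvd_of_le h
    exact P.not_dvd_index (h1.trans h3)
  rw [SetLike.not_le_iff_exists] at h2
  obtain ⟨ρ, hρ, hc⟩ := h2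
  obtain ⟨k, hk⟩ := P.isPGroup' ⟨ρ, hρ⟩
  refine ⟨ρ, ρ.2, ?_, k, ?_⟩
  · by_contra hcon
    push Not at hcon
    apply hc
    rw [mem_center_iff]
    intro l
    exact Subtype.ext (hcon l l.2).symm
  · have h4 : ρ ^ 11 ^ k = 1 := congrArg Subtype.val hk
    exact congrArg Subtype.val h4

/-! ### Counting modulo 11 -/

/-- `v ↦ ρ v - v` -/
def del (ρ : H) : V →+ V where
  toFun v := ρ • v - v
  map_zero' := by rw [smul_zero, sub_zero]
  map_add' u v := by rw [smul_add]; abel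

theorem del_apply (ρ : H) (v : V) : del ρ v = ρ • v - v := rfl

theorem pow_two_of_dvd {n m : ℕ} (h : n ∣ 2 ^ m) : ∃ k ≤ m, n = 2 ^ k := (Nat.dvd_prime_pow Nat.prime_two).1 h

theorem ten_le {u k : ℕ} (hk : k < u) (h : 2 ^ u ≡ 2 ^ k [MOD 11]) : k + 10 ≤ u := by
  by_contra hcon
  obtain ⟨j, rfl⟩ := Nat.exists_eq_add_of_lt hk
  have hj : j + 1 < 10 := by omega
  have h1 : 2 ^ (j + 1) ≡ 1 [MOD 11] := by
    have h2 : 2 ^ k * 2 ^ (j + 1) ≡ 2 ^ k * 1 [MOD 11] := by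
      rw [mul_one, ← pow_add]
      exact h
    exact Nat.ModEq.cancel_left_of_coprime (by
      rw [Nat.gcd_comm]
      exact Nat.Coprime.pow_left k (by norm_num)) h2
  have h3 : ∀ j < 9, ¬ (2 ^ (j + 1) ≡ 1 [MOD 11]) := by decide
  exact h3 j (by omega) h1

/-- counting fixed points in an invariant subgroup -/
theorem count [Finite V] {ρ : H} {k : ℕ} (hρ : ρ ^ 11 ^ k = 1) {U : AddSubgroup V}
    (hU : ∀ u ∈ U, ρ • u ∈ U) :
    Nat.card U ≡ Nat.card (U ⊓ (del ρ : V →+ V).ker : AddSubgroup V) [MOD 11] := by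
  classical
  have : Fact (Nat.Prime 11) := ⟨by norm_num⟩
  have := Fintype.ofFinite U
  let g : Function.End U := fun u => ⟨ρ • (u : V), hU u u.2⟩
  have hg : ∀ n : ℕ, ∀ u : U, (((g ^ n) u : U) : V) = ρ ^ n • (u : V) := by
    intro n
    induction n with
    | zero =>
      intro u
      rw [pow_zero, pow_zero, one_smul]
      rfl
    | succ n ih =>
      intro u
      rw [pow_succ', pow_succ', mul_smul, ← ih]
      rfl
  have h1 : g ^ 11 ^ k = 1 := by
    funext u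
    apply Subtype.ext
    rw [hg, hρ, one_smul]
    rfl
  have h2 := Equiv.Perm.card_fixedPoints_modEq h1
  rw [← Nat.card_eq_fintype_card, ← Nat.card_eq_fintype_card] at h2
  have h3 : Nat.card (Function.fixedPoints g) = Nat.card (U ⊓ (del ρ : V →+ V).ker : AddSubgroup V) := by
    apply Nat.card_congr
    refine ⟨fun u => ⟨u.1, u.1.2, ?_⟩, fun u => ⟨⟨u.1, u.2.1⟩, ?_⟩, fun u => rfl, fun u => rfl⟩
    · have h4 : g u.1 = u.1 := u.2
      have h5 : ρ • (u.1 : V) = u.1 := congrArg Subtype.val h4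
      show ρ • ((u.1 : U) : V) - (u.1 : U) = 0
      rw [h5, sub_self]
    · show g _ = _
      apply Subtype.ext
      have h4 : ρ • (u : V) - u = 0 := u.2.2
      exact sub_eq_zero.1 h4
  rw [h3] at h2
  exact h2

/-- `|U| = |δ(U)| |C_U(ρ)|` -/
theorem card_map_del [Finite V] (ρ : H) (U : AddSubgroup V) :
    Nat.card U = Nat.card (U.map (del ρ)) * Nat.card (U ⊓ (del ρ : V →+ V).ker : AddSubgroup V) := by
  let g : U →+ V := (del ρ : V →+ V).comp U.subtype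
  have h1 : Nat.card g.ker = Nat.card (U ⊓ (del ρ : V →+ V).ker : AddSubgroup V) := by
    apply Nat.card_congr
    exact ⟨fun u => ⟨u.1, u.1.2, u.2⟩, fun u => ⟨⟨u.1, u.2.1⟩, u.2.2⟩, fun u => rfl, fun u => rfl⟩
  have h2 : g.range = U.map (del ρ) := by
    rw [AddMonoidHom.range_comp, AddSubgroup.range_subtype]
  rw [← h1, ← h2, ← AddSubgroup.index_ker, mul_comm]
  exact (AddSubgroup.card_mul_index g.ker).symm

end

end Cfsg.Agent.Omega.EH3.M22.Irr
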