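import Cfsg.Agent.Omega.EH3.M22.Cen

/-!
# EH3, row `M22` (helper969)

`row` : in the abstract main case, if `L` is normal in `H`, perfect, `L / Z(L) ≅ M22`, then `w = 6`,
`|Z(L)| = 3` and `C_H(L) ≤ L`.
-/

set_option autoImplicit false

namespace Cfsg.Agent.Omega.EH3.M22.Row

open Cfsg Subgroup
open Cfsg.Agent.KFacts.MM.Sub Cfsg.Agent.KFacts.MM.OutP
open Cfsg.Agent.J4Type.Aut22 (D22 mem_D22_iff M22_le_D22)
open Cfsg.Agent.OddHalf.MM (El Nrm)
open Cfsg.Agent.Omega.EH3.M22.Irr Cfsg.Agent.Omega.EH3.M22.Cen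
open Cfsg.Agent.Omega.EH3.M22.Perm Cfsg.Agent.Omega.EH3.M22.Gram

variable {H V : Type*} [Group H] [AddCommGroup V] [DistribMulAction H V] {f : V → V → ZMod 2}
  {A L : Subgroup H} {a : V} {w : ℕ}

/-- the homomorphism to `D22` normalised by `σ(A) = P` -/
theorem exists_sigma (I : Inp f A L a w) :
    ∃ σ : H →* Equiv.Perm GolayPt, (∀ h, σ h ∈ D22) ∧ (∀ h, σ h = 1 ↔ ∀ l ∈ L, h * l = l * h) ∧
      (∀ l ∈ L, σ l ∈ Spor.M22) ∧ (∀ m ∈ Spor.M22, ∃ l ∈ L, σ l = m) ∧ (∀ x ∈ A, σ x ∈ P) ∧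
      ∀ p ∈ P, ∃ x ∈ A, σ x = p := by
  have hn := I.nL
  obtain ⟨τ, hD, hk, hL, hs⟩ := Tau.exists_tau I.perf I.iso
  have hE : A.map τ ≤ D22 := by
    rintro _ ⟨x, -, rfl⟩
    exact hD x
  have hel : El (A.map τ) := by
    rintro _ ⟨x, hx, rfl⟩
    rw [← map_mul, I.elA x hx, map_one]
  have hcard : Nat.card (A.map τ) = Nat.card A := by
    symm
    apply Nat.card_congr
    refine Equiv.ofBijective (fun x : A => (⟨τ x, x, x.2, rfl⟩ : A.map τ)) ⟨?_, ?_⟩
    · intro x y hxy
      have h1 : τ x = τ y := congrArg Subtype.val hxy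
      have h2 : τ ((x : H)⁻¹ * y) = 1 := by
        rw [map_mul, map_inv, h1, inv_mul_cancel]
      have h3 := I.AL _ (mul_mem (inv_mem x.2) y.2) ((hk _).1 h2)
      exact Subtype.ext (inv_mul_eq_one.1 h3)
    · rintro ⟨_, x, hx, rfl⟩
      exact ⟨⟨x, hx⟩, rfl⟩
  obtain ⟨g, hg, hgE⟩ := Sub32.exists_conj_P hE hel (by
    rw [hcard, I.cardA, w_eq I]
    norm_num)
  refine ⟨(MulAut.conj g).toMonoidHom.comp τ, ?_, ?_, ?_, ?_, ?_, ?_⟩
  · intro h
    exact mul_mem (mul_mem hg (hD h)) (inv_mem hg)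
  · intro h
    rw [← hk]
    constructor
    · intro e
      have e' : g * τ h * g⁻¹ = 1 := e
      rw [mul_inv_eq_one] at e'
      exact mul_eq_left.1 e'
    · intro e
      show g * τ h * g⁻¹ = 1
      rw [e, mul_one, mul_inv_cancel]
  · intro l hl
    exact KFacts.MM.OutAut.conj_mem22 hg (hL l hl)
  · intro m hm
    have h1 := KFacts.MM.OutAut.conj_mem22 (inv_mem hg) hm
    rw [inv_inv] at h1
    obtain ⟨l, hl, e⟩ := hs _ h1
    refine ⟨l, hl, ?_⟩
    show g * τ l * g⁻¹ = m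
    rw [e]
    group
  · intro x hx
    exact (hgE (τ x)).1 ⟨x, hx, rfl⟩
  · intro p hp
    have h1 : g⁻¹ * p * g ∈ A.map τ := by
      rw [hgE]
      have e : g * (g⁻¹ * p * g) * g⁻¹ = p := by group
      rw [e]
      exact hp
    obtain ⟨x, hx, e⟩ := h1
    refine ⟨x, hx, ?_⟩
    show g * τ x * g⁻¹ = p
    rw [e]
    group

/-- `L` is not isomorphic to `M22` -/
theorem no_M22 [Finite H] [Finite V] (I : Inp f A L a w)
    (hZ : ∀ l ∈ L, (∀ l' ∈ L, l * l' = l' * l) → l = 1) : False := by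
  have hn := I.nL
  obtain ⟨σ, hD, hk, hL, hs, hA, hP⟩ := exists_sigma I
  have hs' : ∀ m, m ∈ Spor.M22 → ∃ l, l ∈ L ∧ σ l = m := fun m hm => by
    obtain ⟨l, hl, e⟩ := hs m hm
    exact ⟨l, hl, e⟩
  choose! s hsL using hs'
  have inj : ∀ x ∈ L, ∀ y ∈ L, σ x = σ y → x = y := by
    intro x hx y hy e
    have h1 : σ (x⁻¹ * y) = 1 := by
      rw [map_mul, map_inv, e, inv_mul_cancel]
    exact inv_mul_eq_one.1 (hZ _ (mul_mem (inv_mem hx) hy) ((hk _).1 h1))
  have smul' : ∀ x ∈ Spor.M22, ∀ y ∈ Spor.M22, s (x * y) = s x * s y := by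
    intro x hx y hy
    apply inj _ (hsL _ (mul_mem hx hy)).1 _ (mul_mem (hsL x hx).1 (hsL y hy).1)
    rw [map_mul, (hsL _ (mul_mem hx hy)).2, (hsL x hx).2, (hsL y hy).2]
  have sinv : ∀ x ∈ Spor.M22, s x⁻¹ = (s x)⁻¹ := by
    intro x hx
    apply inj _ (hsL _ (inv_mem hx)).1 _ (inv_mem (hsL x hx).1)
    rw [map_inv, (hsL _ (inv_mem hx)).2, (hsL x hx).2]
  have sσ : ∀ l ∈ L, s (σ l) = l := by
    intro l hl
    exact inj _ (hsL _ (hL l hl)).1 _ hl (hsL _ (hL l hl)).2
  -- elements of order at most two of `C_H(L)`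
  have hC : ∀ c : H, (∀ l ∈ L, c * l = l * c) → c * c = 1 → c = 1 := by
    intro c hc h2
    have hm : c ∈ centralizer (L : Set H) := mem_centralizer_iff.2 fun l hl => (hc l hl).symm
    have h3 : (⟨c, hm⟩ : centralizer (L : Set H)) ^ 2 = 1 := by
      apply Subtype.ext
      show c ^ 2 = 1
      rw [pow_two, h2]
    have h4 := orderOf_dvd_of_pow_eq_one h3
    have h5 := orderOf_dvd_natCard (⟨c, hm⟩ : centralizer (L : Set H))
    have h6 : orderOf (⟨c, hm⟩ : centralizer (L : Set H)) = 1 := by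
      rcases card_C I with h7 | h7
      · rw [h7] at h5
        exact Nat.dvd_one.1 h5
      · rw [h7] at h5
        have := Nat.dvd_gcd h4 h5
        exact Nat.dvd_one.1 this
    rw [orderOf_eq_one_iff] at h6
    exact congrArg Subtype.val h6
  -- `s(W) ≤ A`
  have sW : ∀ x ∈ W, s x ∈ A := by
    intro x hx
    have hxM : x ∈ Spor.M22 := KFacts.MM.Cent.W_le22 hx
    obtain ⟨x', hx', e⟩ := hP x (W_le_P hx)
    have h1 : σ ((s x)⁻¹ * x') = 1 := by
      rw [map_mul, map_inv, e, (hsL x hxM).2, inv_mul_cancel]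
    have h2 := (hk _).1 h1
    have h3 : s x * s x = 1 := by
      rw [← smul' x hxM x hxM, elW x hx]
      apply inj _ (hsL _ (one_mem _)).1 _ (one_mem L)
      rw [(hsL _ (one_mem _)).2, map_one]
    have h3' : (s x)⁻¹ = s x := inv_eq_of_mul_eq_one_left h3
    have h4 : (s x)⁻¹ * x' = 1 := by
      apply hC _ h2
      have h5 := h2 (s x) (hsL x hxM).1
      rw [h3'] at h5 ⊢
      calc s x * x' * (s x * x') = (s x * x' * s x) * x' := by group
        _ = s x * (s x * x') * x' := by rw [h5]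
        _ = (s x * s x) * (x' * x') := by group
        _ = 1 := by rw [h3, I.elA x' hx', one_mul]
    rw [inv_mul_eq_one.1 h4]
    exact hx'
  -- `N(W)` fixes `a`
  have nA : ∀ n ∈ Spor.M22, Nrm n W → s n • a = a := by
    intro n hn' hN
    have h1 : ∀ x ∈ A, (s n)⁻¹ * x * s n ∈ A := by
      intro x hx
      set l : H := (s n)⁻¹ * (x * s n * x⁻¹) with hl
      have hlL : l ∈ L := mul_mem (inv_mem (hsL n hn').1) (hn.conj_mem _ (hsL n hn').1 x)
      have e1 : (s n)⁻¹ * x * s n = l * x := by rw [hl]; group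
      have hNP : Nrm n P := (nrm_P_iff (M22_le_D22 hn')).2 hN
      have h2 : σ l ∈ P := by
        have e2 : l = (s n)⁻¹ * x * s n * x⁻¹ := by rw [hl]; group
        rw [e2, map_mul, map_mul, map_mul, map_inv, map_inv, (hsL n hn').2]
        exact mul_mem (KFacts.MM.Cent.nrm_inv hNP (hA x hx)) (inv_mem (hA x hx))
      have h3 : σ l ∈ W := PK h2 (hL l hlL)
      have h4 := sW _ h3
      rw [sσ l hlL] at h4
      rw [e1]
      exact mul_mem h4 hx
    rcases I.CA (s n • a) (by
      intro x hx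
      have h2 := I.aA _ (h1 x hx)
      rw [mul_smul, mul_smul, inv_smul_eq_iff] at h2
      exact h2) with h | h
    · exfalso
      exact I.a0 ((smul_eq_zero_iff_eq _).1 h)
    · exact h
  let F : Equiv.Perm GolayPt → ZMod 2 := fun g => f a (s g • a)
  have h01 : ∀ x : ZMod 2, x = 0 ∨ x = 1 := by decide
  have F_dbl : ∀ y ∈ Spor.M22, Nrm y W → ∀ m ∈ Spor.M22, Nrm m W → ∀ g ∈ Spor.M22,
      F (y * g * m) = F g := by
    intro y hy hyN m hm hmN g hg
    show f a (s (y * g * m) • a) = f a (s g • a)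
    rw [smul' _ (mul_mem hy hg) m hm, smul' y hy g hg, mul_smul, mul_smul, nA m hm hmN]
    conv_lhs => rw [← nA y hy hyN]
    rw [nA y hy hyN]
    have h1 := I.finv (s y) a (s g • a)
    rw [nA y hy hyN] at h1
    exact h1
  have F_c : ∀ g ∈ Spor.M22, F g = 1 → c160 g := by
    intro g hg h
    by_contra hcon
    obtain ⟨x, hx, hx1, hN⟩ := of_not_c160 hg hcon
    have hxM : x ∈ Spor.M22 := KFacts.MM.Cent.W_le22 hx
    have h1 := nA _ (mul_mem (mul_mem (inv_mem hg) hxM) hg) hN
    rw [smul' _ (mul_mem (inv_mem hg) hxM) g hg, smul' _ (inv_mem hg) x hxM, sinv g hg, mul_smul,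
      mul_smul, inv_smul_eq_iff] at h1
    have h2 := I.semi _ h (s x) (sW x hx) h1
    apply hx1
    rw [← (hsL x hxM).2, h2, map_one]
  have F_ex : ∃ g ∈ Spor.M22, F g = 1 := by
    by_contra hcon
    push Not at hcon
    let K : AddSubgroup V :=
      { carrier := {v | f a v = 0}
        zero_mem' := by
          show f a 0 = 0
          have h1 := I.fadd a 0 0
          rw [add_zero] at h1
          exact left_eq_add.1 h1
        add_mem' := fun {u v} (hu : f a u = 0) (hv : f a v = 0) => by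
          show f a (u + v) = 0
          rw [I.fadd, hu, hv, add_zero]
        neg_mem' := fun {u} (hu : f a u = 0) => by
          show f a (-u) = 0
          rw [neg_eq_iff_add_eq_zero.2 (I.two u)]
          exact hu }
    let U : AddSubgroup V := AddSubgroup.closure {x | ∃ l ∈ L, x = l • a}
    have hUK : U ≤ K := by
      rw [AddSubgroup.closure_le]
      rintro x ⟨l, hl, rfl⟩
      show f a (l • a) = 0
      have h1 := hcon (σ l) (hL l hl)
      rcases h01 (f a (l • a)) with h2 | h2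
      · exact h2
      · exfalso
        apply h1
        show f a (s (σ l) • a) = 1
        rw [sσ l hl, h2]
    have hU := irrL I U (by
      intro l hl
      have h1 : U ≤ U.comap (DistribSMul.toAddMonoidHom V l) := by
        rw [AddSubgroup.closure_le]
        rintro x ⟨l', hl', rfl⟩
        show l • l' • a ∈ U
        apply AddSubgroup.subset_closure
        exact ⟨l * l', mul_mem hl hl', (mul_smul _ _ _).symm⟩
      intro u hu
      exact h1 hu) ⟨a, AddSubgroup.subset_closure ⟨1, one_mem L, (one_smul H a).symm⟩, I.a0⟩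
    exact I.a0 (I.fnd a fun v => hUK (hU v))
  have F_g0 : F g0 = 1 := by
    obtain ⟨g, hg, h1⟩ := F_ex
    obtain ⟨y, hy, hyN, m, hm, hmN, e⟩ := dbl hg (F_c g hg h1)
    rw [← F_dbl y hy hyN m hm hmN g0 g0_mem, ← e, h1]
  have F_1 : ∀ g ∈ Spor.M22, c160 g → F g = 1 := by
    intro g hg h1
    obtain ⟨y, hy, hyN, m, hm, hmN, e⟩ := dbl hg h1
    rw [e, F_dbl y hy hyN m hm hmN g0 g0_mem, F_g0]
  -- the Gram matrix
  have hge := card_ge f I.fadd (fun i => s (gg i) • a) (by
    intro i j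
    have h1 : f (s (gg i) • a) (s (gg j) • a) = F ((gg i)⁻¹ * gg j) := by
      show _ = f a (s ((gg i)⁻¹ * gg j) • a)
      rw [smul' _ (inv_mem (gg_mem i)) _ (gg_mem j), sinv _ (gg_mem i), mul_smul]
      have h2 := I.finv (s (gg i)) a ((s (gg i))⁻¹ • s (gg j) • a)
      rw [smul_inv_smul] at h2
      exact h2
    rw [h1]
    have hmem : (gg i)⁻¹ * gg j ∈ Spor.M22 := mul_mem (inv_mem (gg_mem i)) (gg_mem j)
    unfold Gm
    by_cases hb : (Data.gM.getD i 0).testBit j = true
    · rw [if_pos hb]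
      exact F_1 _ hmem ((gram_iff i j).2 hb)
    · rw [if_neg hb]
      rcases h01 (F ((gg i)⁻¹ * gg j)) with h2 | h2
      · exact h2
      · exact absurd ((gram_iff i j).1 (F_c _ hmem h2)) hb)
  rw [cardV12 I] at hge
  norm_num at hge

/-- **the row `M22`** -/
theorem row [Finite H] [Finite V] (I : Inp f A L a w) :
    w = 6 ∧ Nat.card (center L) = 3 ∧ ∀ h : H, (∀ l ∈ L, h * l = l * h) → h ∈ L := by
  refine ⟨w_eq I, ?_⟩
  have hle : (center L).map L.subtype ≤ centralizer (L : Set H) := by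
    rintro _ ⟨c, hc, rfl⟩
    rw [mem_centralizer_iff]
    intro l hl
    exact congrArg Subtype.val (mem_center_iff.1 hc ⟨l, hl⟩)
  have hcard : Nat.card ((center L).map L.subtype) = Nat.card (center L) :=
    card_map_of_injective L.subtype_injective
  have hne : Nat.card (center L) ≠ 1 := by
    intro h1
    apply no_M22 I
    intro l hl hc
    have h2 : (⟨l, hl⟩ : L) ∈ center L := mem_center_iff.2 fun y => Subtype.ext (hc y y.2).symm
    rw [card_eq_one.1 h1] at h2
    exact congrArg Subtype.val (mem_bot.1 h2)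
  have hdvd : Nat.card (center L) ∣ Nat.card (centralizer (L : Set H)) := by
    rw [← hcard]
    exact card_dvd_of_le hle
  have h3 : Nat.card (centralizer (L : Set H)) = 3 := by
    rcases card_C I with h | h
    · rw [h] at hdvd
      exact absurd (Nat.dvd_one.1 hdvd) hne
    · exact h
  have hZ3 : Nat.card (center L) = 3 := by
    rw [h3] at hdvd
    rcases (Nat.dvd_prime Nat.prime_three).1 hdvd with h | h
    · exact absurd h hne
    · exact h
  refine ⟨hZ3, ?_⟩
  have heq : (center L).map L.subtype = centralizer (L : Set H) := by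
    apply eq_of_le_of_card_ge hle
    rw [hcard, hZ3, h3]
  intro h hh
  have hm : h ∈ centralizer (L : Set H) := mem_centralizer_iff.2 fun l hl => (hh l hl).symm
  rw [← heq] at hm
  obtain ⟨c, -, rfl⟩ := hm
  exact c.2

end Cfsg.Agent.Omega.EH3.M22.Row
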