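import Cfsg.Agent.Omega.EH3.Row
import Cfsg.Agent.Omega.EH3.M22.Row

/-!
# EH3, row `M22`, from the configuration `Cfg` (helper969)

`row_cfg` : if the configuration `Cfg` of EH3 occurs with a normal odd cover `L` of `K ≅ M22` in `H`
(`X ∩ C_H(L) = 1`), then `w = 6`, `|Z(L)| = 3` and `C_H(L) ≤ L`.
-/

set_option autoImplicit false

namespace Cfsg.Agent.Omega.EH3.M22.OfCfg

open Cfsg Subgroup
open Cfsg.Agent.Omega.EH3 Cfsg.Agent.Omega.TwoF
open Cfsg.Agent.Omega.EH3.M22.Irr

universe u v

variable {H V : Type*} [Group H] [AddCommGroup V] [Module (ZMod 2) V]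
  {ρ : H →* (V ≃ₗ[ZMod 2] V)} {b : LinearMap.BilinForm (ZMod 2) V} {q : V → ZMod 2}
  {a : V} {D : Submodule (ZMod 2) V} {X : Subgroup H} {w : ℕ}

/-- the action -/
abbrev actA (ρ : H →* (V ≃ₗ[ZMod 2] V)) : DistribMulAction H V := DistribMulAction.compHom V ρ

/-- the centre of an odd cover of a centreless group; the quotient -/
theorem quot_equiv {L : Subgroup H} {K : Type*} [Group K] {π : L →* K} (hπ : OddCover π)
    (hK : center K = ⊥) : Nonempty (L ⧸ center L ≃* K) := by
  have h1 := hπ.ker_eq hK
  exact ⟨(QuotientGroup.quotientMulEquivOfEq h1.symm).trans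
    (QuotientGroup.quotientKerEquivOfSurjective π hπ.surj)⟩

/-- the input of the abstract row -/
theorem inp_of_cfg (C : Cfg ρ b q a D X w) {L : Subgroup H} (hL : L.Normal) (hp : ⁅L, L⁆ = L)
    (hi : Spor.IsoM22 (L ⧸ center L)) (hX : X ⊓ centralizer (L : Set H) = ⊥) :
    @Inp H V _ _ (actA ρ) (fun u v => b u v) X L a w := by
  let := actA ρ
  have hsm : ∀ (h : H) (v : V), h • v = ρ h v := fun _ _ => rfl
  refine
    { two := C.add_self
      faith := fun h hh => C.ext (fun v => by rw [C.ρ_one]; exact hh v)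
      irr := ?_
      fadd := fun u v v' => map_add _ _ _
      finv := fun h u v => C.b_inv h u v
      fnd := C.nondeg
      hw := C.six
      cardV := C.card_V
      elA := C.X_sq
      cardA := C.card_X
      a0 := C.a_ne
      aA := fun x hx => C.X_a hx
      CA := fun v hv => C.fixed_X hv
      semi := ?_
      nL := hL
      perf := hp
      iso := hi
      AL := ?_ }
  · intro U hU hne v
    let W : Submodule (ZMod 2) V :=
      { carrier := U
        zero_mem' := U.zero_mem
        add_mem' := fun hx hy => U.add_mem hx hy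
        smul_mem' := fun c x hx => by
          rcases zmod_two c with h | h
          · rw [h, zero_smul]; exact U.zero_mem
          · rw [h, one_smul]; exact hx }
    rcases C.irr W (fun h v hv => hU h v hv) with h | h
    · exfalso
      obtain ⟨u, hu, hu0⟩ := hne
      have h1 : u ∈ W := hu
      rw [h, Submodule.mem_bot] at h1
      exact hu0 h1
    · have h1 : v ∈ W := by rw [h]; trivial
      exact h1
  · intro v hv x hx hxv
    apply C.X_semi x hx v hv
    rw [show ρ x v = v from hxv, C.add_self]
    exact D.zero_mem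
  · intro x hx hc
    have h1 : x ∈ X ⊓ centralizer (L : Set H) :=
      ⟨hx, mem_centralizer_iff.2 fun l hl => (hc l hl).symm⟩
    rw [hX] at h1
    exact mem_bot.1 h1

/-- **the row `M22` from `Cfg`** -/
theorem row_cfg' (C : Cfg ρ b q a D X w) {L : Subgroup H} (hL : L.Normal) (hp : ⁅L, L⁆ = L)
    (hi : Spor.IsoM22 (L ⧸ center L)) (hX : X ⊓ centralizer (L : Set H) = ⊥) :
    w = 6 ∧ Nat.card (center L) = 3 ∧ ∀ h : H, (∀ l ∈ L, h * l = l * h) → h ∈ L := by
  have := C.finite_H
  have := C.finite_V
  exact @Row.row H V _ _ (actA ρ) _ X L a w _ _ (inp_of_cfg C hL hp hi hX)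

/-- **the row `M22` from `Cfg`, with an odd cover** -/
theorem row_cfg {K : Type*} [Group K] (hK : Spor.IsoM22 K) (C : Cfg ρ b q a D X w) {L : Subgroup H}
    {π : L →* K} (hL : L.Normal) (hπ : OddCover π) (hX : X ⊓ centralizer (L : Set H) = ⊥) :
    w = 6 ∧ Nat.card (center L) = 3 ∧ Spor.IsoM22 (L ⧸ center L) ∧
      ∀ h : H, (∀ l ∈ L, h * l = l * h) → h ∈ L := by
  obtain ⟨e⟩ := hK
  have hsK : IsSimpleGroup K :=
    have := SporadicA.MathieuRecog.simple_M22
    e.isSimpleGroup
  have hcK : center K = ⊥ := by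
    rcases hsK.eq_bot_or_eq_top_of_normal (center K) inferInstance with h | h
    · exact h
    · exfalso
      have hc : ∀ x y : K, x * y = y * x := fun x y => by
        have : x ∈ center K := by rw [h]; trivial
        exact (mem_center_iff.1 this y).symm
      have hc' : commutator K = ⊥ := by
        rw [commutator_def, commutator_eq_bot_iff_le_centralizer]
        intro x _
        rw [mem_centralizer_iff]
        intro y _
        exact (hc x y).symm
      have h1 : (commutator L).map π = commutator K := by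
        rw [commutator_def, commutator_def, map_commutator, ← MonoidHom.range_eq_map,
          MonoidHom.range_eq_top.2 hπ.surj]
      rw [hπ.perf, hc', ← MonoidHom.range_eq_map, MonoidHom.range_eq_top.2 hπ.surj] at h1
      exact top_ne_bot h1
  obtain ⟨e'⟩ := quot_equiv hπ hcK
  have hi : Spor.IsoM22 (L ⧸ center L) := ⟨e'.trans e⟩
  have hp : ⁅L, L⁆ = L := by
    have h1 := hπ.perf
    rw [commutator_def] at h1
    have h2 : (⁅(⊤ : Subgroup L), (⊤ : Subgroup L)⁆).map L.subtype = (⊤ : Subgroup L).map L.subtype := by rw [h1]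
    rw [map_commutator, ← MonoidHom.range_eq_map, range_subtype] at h2
    exact h2
  obtain ⟨h1, h2, h3⟩ := row_cfg' C hL hp hi hX
  exact ⟨h1, h2, hi, h3⟩

end Cfsg.Agent.Omega.EH3.M22.OfCfg
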