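import Cfsg.Agent.KFacts.MM.OutAut
import Cfsg.Agent.KFacts.MM.OutC
import Cfsg.Agent.Omega.EH3.M22.Data

/-!
# EH3, row `M22`: duads (helper969)

`N(W)` in `M22` is the stabiliser of the duad `{1, 2}`. `c160 g`: the duads `{1, 2}` and `g{1, 2}` are disjoint
and their union is not contained in a hexad.
-/

set_option autoImplicit false
set_option Elab.async false

namespace Cfsg.Agent.Omega.EH3.M22.Perm

open Cfsg Cfsg.Agent.KFacts.MM.El Cfsg.Agent.KFacts.MM.Data Cfsg.Agent.KFacts.MM.DataO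
open Cfsg.Agent.KFacts.MM.DataT Cfsg.Agent.KFacts.MM.Sub Cfsg.Agent.KFacts.MM.Int
open Cfsg.Agent.KFacts.MM.El16 Cfsg.Agent.KFacts.MM.Cent Cfsg.Agent.KFacts.MM.OutP
open Cfsg.Agent.KFacts.MM.OutT Cfsg.Agent.KFacts.MM.OutN
open Cfsg.Agent.SporadicA.GolayBase Cfsg.Agent.SporadicA.GolayPerm
open Cfsg.Agent.J4Type.Aut22 (D22 mem_D22_iff M22_le_D22 mem_M22_iff_D22 card_D22)
open Cfsg.Agent.OddHalf.MM (Nrm Cen El)
open Cfsg.Agent.Omega.EH3.M22.Data
open scoped Pointwise

/-! ### `W` as a group of tetrad preserving permutations -/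

theorem mem_W_of_T {g : Equiv.Perm GolayPt} (hg : g ∈ Spor.M22)
    (hT : ∀ i < 24, T i ≠ 5 → T (val g i) = T i) : g ∈ W := by
  have k1 : T 4 ≠ 5 ∧ T 6 ≠ 5 := by decide +kernel
  have k3 : (pts.all fun q => pts.all fun r => !(Nat.beq (T q) (T 4) && Nat.beq (T r) (T 6)) ||
      WL.any fun P => Nat.beq (papp P 4) q && Nat.beq (papp P 6) r) = true := by decide +kernel
  have k4 := List.all_eq_true.1 (List.all_eq_true.1 k3 _ (mem_pts (val_lt g 4))) _
    (mem_pts (val_lt g 6))
  rw [hT 4 (by norm_num) k1.1, hT 6 (by norm_num) k1.2, Nat.beq_refl, Nat.beq_refl, Bool.and_true,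
    Bool.not_true, Bool.false_or] at k4
  obtain ⟨P, hP, h7⟩ := List.any_eq_true.1 k4
  rw [Bool.and_eq_true] at h7
  have e4 := Nat.eq_of_beq_eq_true h7.1
  have e6 := Nat.eq_of_beq_eq_true h7.2
  have hPW : pm P ∈ W := ⟨P, hP, rfl⟩
  have hp := pW hP
  have hPP : pm P * pm P = 1 := elW _ hPW
  have hval : ∀ i j, i < 24 → j < 24 → val g i = papp P j → val (pm P * g) i = j := by
    intro i j hi hj e
    rw [val_mul, e, ← val_pm hp hj, ← val_mul, hPP, val_one hj]
  have h1 : pm P * g = 1 := by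
    apply eq_one (mul_mem (M22_le24 (W_le22 hPW)) (M22_le24 hg))
    · exact hval 0 0 (by norm_num) (by norm_num) (by
        rw [val0 hg, W_fix (by norm_num) (by decide +kernel) hP])
    · exact hval 4 4 (by norm_num) (by norm_num) e4.symm
    · exact hval 6 6 (by norm_num) (by norm_num) e6.symm
    · exact hval 23 23 (by norm_num) (by norm_num) (by
        rw [val23 (M22_le23 hg), W_fix (by norm_num) (by decide +kernel) hP])
    · intro i hi h5
      rw [val_mul, val_pm hp (val_lt g i), W_T (WP hP) (val_lt g i), hT i hi h5]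
  have h2 : g = pm P := by
    calc g = pm P * pm P * g := by rw [hPP, one_mul]
      _ = pm P := by rw [mul_assoc, h1, mul_one]
  rw [h2]
  exact hPW

/-! ### The stabiliser of the duad `{1, 2}` -/

/-- the octad of the tetrad `k` and the base tetrad -/
def ok (k : ℕ) : ℕ := match k with
  | 0 => 2 ^ 0 + 2 ^ 1 + 2 ^ 2 + 2 ^ 23 + 2 ^ 3 + 2 ^ 5 + 2 ^ 14 + 2 ^ 17
  | 1 => 2 ^ 0 + 2 ^ 1 + 2 ^ 2 + 2 ^ 23 + 2 ^ 4 + 2 ^ 13 + 2 ^ 16 + 2 ^ 22
  | 2 => 2 ^ 0 + 2 ^ 1 + 2 ^ 2 + 2 ^ 23 + 2 ^ 6 + 2 ^ 7 + 2 ^ 19 + 2 ^ 21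
  | 3 => 2 ^ 0 + 2 ^ 1 + 2 ^ 2 + 2 ^ 23 + 2 ^ 8 + 2 ^ 11 + 2 ^ 12 + 2 ^ 18
  | _ => 2 ^ 0 + 2 ^ 1 + 2 ^ 2 + 2 ^ 23 + 2 ^ 9 + 2 ^ 10 + 2 ^ 15 + 2 ^ 20

theorem ok_oct {k : ℕ} (hk : k < 5) : fin (ok k) ∈ octads := by
  have h : ∀ k < 5, ok k < 2 ^ 24 ∧ isCode (ok k) = true ∧ popcount (ok k) = 8 := by
    decide +kernel
  obtain ⟨h1, h2, h3⟩ := h k hk
  exact (fin_mem_octads_iff h1).2 ⟨h2, h3⟩

theorem mem_ok {k i : ℕ} (hk : k < 5) (hi : i < 24) :
    (ok k).testBit i = true ↔ T i = 5 ∨ T i = k := by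
  have h0 : ∀ k < 5, ∀ i < 24, (ok k).testBit i = true ↔ T i = 5 ∨ T i = k := by decide +kernel
  exact h0 k hk i hi

/-- a permutation of `M22` preserving the duad `{1, 2}` preserves the base tetrad -/
theorem T5_of {g : Equiv.Perm GolayPt} (hg : g ∈ Spor.M22)
    (h : (val g 1 = 1 ∧ val g 2 = 2) ∨ (val g 1 = 2 ∧ val g 2 = 1)) {i : ℕ} (hi : i < 24) :
    T (val g i) = 5 ↔ T i = 5 := by
  have k0 : ∀ i < 24, T i = 5 ↔ i = 0 ∨ i = 1 ∨ i = 2 ∨ i = 23 := by decide +kernel
  have h0 := val0 hg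
  have h23 := val23 (M22_le23 hg)
  constructor
  · intro h5
    have h6 := (k0 _ (val_lt g i)).1 h5
    rw [k0 i hi]
    rcases h6 with h6 | h6 | h6 | h6
    · left
      exact val_inj hi (by norm_num) (h6.trans h0.symm)
    · rcases h with h | h
      · right; left
        exact val_inj hi (by norm_num) (h6.trans h.1.symm)
      · right; right; left
        exact val_inj hi (by norm_num) (h6.trans h.2.symm)
    · rcases h with h | h
      · right; right; left
        exact val_inj hi (by norm_num) (h6.trans h.2.symm)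
      · right; left
        exact val_inj hi (by norm_num) (h6.trans h.1.symm)
    · right; right; right
      exact val_inj hi (by norm_num) (h6.trans h23.symm)
  · intro h5
    rw [k0 _ (val_lt g i)]
    rcases (k0 i hi).1 h5 with rfl | rfl | rfl | rfl
    · exact Or.inl h0
    · rcases h with h | h
      · exact Or.inr (Or.inl h.1)
      · exact Or.inr (Or.inr (Or.inl h.1))
    · rcases h with h | h
      · exact Or.inr (Or.inr (Or.inl h.2))
      · exact Or.inr (Or.inl h.2)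
    · exact Or.inr (Or.inr (Or.inr h23))

theorem T_congr_of {g : Equiv.Perm GolayPt} (hg : g ∈ Spor.M22)
    (h : (val g 1 = 1 ∧ val g 2 = 2) ∨ (val g 1 = 2 ∧ val g 2 = 1)) {i j : ℕ} (hi : i < 24)
    (hj : j < 24) (h5 : T i ≠ 5) (hij : T i = T j) : T (val g i) = T (val g j) := by
  have hl5 : T (val g i) ≠ 5 := fun e => h5 ((T5_of hg h hi).1 e)
  have hl : T (val g i) < 5 := by
    have := T_le (val_lt g i)
    omega
  have hk : T i < 5 := by
    have := T_le hi
    omega
  -- the images of the octads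
  have heq : g • fin (ok (T i)) = fin (ok (T (val g i))) := by
    apply octad_unique (SporadicA.M24Frames.smul_mem_octads (M22_le24 hg) (ok_oct hk)) (ok_oct hl)
    have hsub : insert (pt (val g i)) (fin (2 ^ 0 + 2 ^ 1 + 2 ^ 2 + 2 ^ 23)) ⊆
        g • fin (ok (T i)) ∩ fin (ok (T (val g i))) := by
      intro q hq
      rw [Finset.mem_insert] at hq
      rw [Finset.mem_inter, mem_fin, mem_ok hl (idx_lt q)]
      rcases hq with rfl | hq
      · refine ⟨?_, Or.inr (by rw [idx_pt (val_lt g i)])⟩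
        rw [pt_val]
        apply Finset.smul_mem_smul_finset
        rw [mem_fin, idx_pt hi, mem_ok hk hi]
        exact Or.inr rfl
      · rw [mem_fin] at hq
        have h1 : T (idx q) = 5 := by
          have h2 : ∀ i < 24, (2 ^ 0 + 2 ^ 1 + 2 ^ 2 + 2 ^ 23 : ℕ).testBit i = true → T i = 5 := by
            decide +kernel
          exact h2 _ (idx_lt q) hq
        refine ⟨?_, Or.inl h1⟩
        obtain ⟨r, hr, hr2⟩ := exists_val g (idx_lt q)
        have h3 : q = g • pt r := by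
          show q = g (pt r)
          rw [← pt_val, hr2, pt_idx]
        rw [h3]
        apply Finset.smul_mem_smul_finset
        rw [mem_fin, idx_pt hr, mem_ok hk hr]
        left
        rw [← T5_of hg h hr, hr2]
        exact h1
    refine le_trans ?_ (Finset.card_le_card hsub)
    rw [Finset.card_insert_of_notMem, card_fin]
    · decide +kernel
    · rw [mem_fin, idx_pt (val_lt g i)]
      intro h2
      have h3 : ∀ i < 24, (2 ^ 0 + 2 ^ 1 + 2 ^ 2 + 2 ^ 23 : ℕ).testBit i = true → T i = 5 := by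
        decide +kernel
      exact hl5 (h3 _ (val_lt g i) h2)
  have h6 : g • pt j ∈ fin (ok (T (val g i))) := by
    rw [← heq]
    apply Finset.smul_mem_smul_finset
    rw [mem_fin, idx_pt hj, mem_ok hk hj]
    exact Or.inr hij.symm
  rw [mem_fin] at h6
  have h7 : (ok (T (val g i))).testBit (val g j) = true := h6
  rcases (mem_ok hl (val_lt g j)).1 h7 with h8 | h8
  · exfalso
    apply h5
    rw [hij]
    exact (T5_of hg h hj).1 h8
  · exact h8.symm

/-- the stabiliser of the duad `{1, 2}` normalises `W` -/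
theorem nrm_of_duad {g : Equiv.Perm GolayPt} (hg : g ∈ Spor.M22)
    (h : (val g 1 = 1 ∧ val g 2 = 2) ∨ (val g 1 = 2 ∧ val g 2 = 1)) : Nrm g W := by
  apply nrm_of
  intro w hw
  apply mem_W_of_T (mul_mem (mul_mem hg (W_le22 hw)) (inv_mem hg))
  intro i hi h5
  obtain ⟨j, hj, hji⟩ := exists_val g hi
  have hinv : val g⁻¹ i = j := by
    rw [← hji, ← val_mul, inv_mul_cancel, val_one hj]
  have hj5 : T j ≠ 5 := by
    intro e
    apply h5
    rw [← hji]
    exact (T5_of hg h hj).2 e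
  rw [val_mul, val_mul, hinv]
  have h1 := T_P (W_le_P hw) hj
  rw [← hji]
  exact (T_congr_of hg h hj (val_lt w j) hj5 h1.symm).symm

/-- the normaliser of `W` preserves the duad `{1, 2}` -/
theorem duad_of_nrm {g : Equiv.Perm GolayPt} (hg : g ∈ Spor.M22) (hN : Nrm g W) :
    (val g 1 = 1 ∧ val g 2 = 2) ∨ (val g 1 = 2 ∧ val g 2 = 1) := by
  have key : ∀ i, i < 24 → T i = 5 → T (val g i) = 5 := by
    intro i hi h5
    by_contra hne
    obtain ⟨P, hP, h1⟩ := W_mv (val_lt g i) hne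
    have hPW : pm P ∈ W := ⟨P, hP, rfl⟩
    have h2 : g⁻¹ * pm P * g ∈ W := nrm_inv hN hPW
    obtain ⟨R, hR, h3⟩ := h2
    apply h1
    rw [← val_pm (pW hP) (val_lt g i), ← val_mul]
    have h4 : pm P * g = g * pm R := by
      rw [h3]
      group
    rw [h4, val_mul, val_pm (pW hR) hi, W_fix hi h5 hR]
  have k0 : ∀ i < 24, T i = 5 ↔ i = 0 ∨ i = 1 ∨ i = 2 ∨ i = 23 := by decide +kernel
  have h0 := val0 hg
  have h23 := val23 (M22_le23 hg)
  have h1 := (k0 _ (val_lt g 1)).1 (key 1 (by norm_num) (by decide +kernel))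
  have h2 := (k0 _ (val_lt g 2)).1 (key 2 (by norm_num) (by decide +kernel))
  have n10 : val g 1 ≠ 0 := fun e => by
    have := val_inj (by norm_num) (by norm_num) (e.trans h0.symm)
    omega
  have n123 : val g 1 ≠ 23 := fun e => by
    have := val_inj (by norm_num) (by norm_num) (e.trans h23.symm)
    omega
  have n20 : val g 2 ≠ 0 := fun e => by
    have := val_inj (by norm_num) (by norm_num) (e.trans h0.symm)
    omega
  have n223 : val g 2 ≠ 23 := fun e => by
    have := val_inj (by norm_num) (by norm_num) (e.trans h23.symm)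
    omega
  have n12 : val g 1 ≠ val g 2 := fun e => by
    have := val_inj (by norm_num) (by norm_num) e
    omega
  omega

/-- normalising `W` and normalising `P` are the same -/
theorem nrm_P_iff {g : Equiv.Perm GolayPt} (hg : g ∈ D22) : Nrm g P ↔ Nrm g W := by
  constructor
  · intro h
    apply nrm_of
    intro x hx
    apply PK ((h x).2 (W_le_P hx))
    exact KFacts.MM.OutAut.conj_mem22 hg (W_le22 hx)
  · intro h
    apply nrm_of
    intro x hx
    apply CW' (mul_mem (mul_mem hg (P_le hx)) (inv_mem hg))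
    intro y hy
    have h1 : g⁻¹ * y * g ∈ W := nrm_inv h hy
    have h2 : x * (g⁻¹ * y * g) = (g⁻¹ * y * g) * x := comm_of_El elP hx (W_le_P h1)
    calc g * x * g⁻¹ * y = g * (x * (g⁻¹ * y * g)) * g⁻¹ := by group
      _ = g * ((g⁻¹ * y * g) * x) * g⁻¹ := by rw [h2]
      _ = y * (g * x * g⁻¹) := by group

/-! ### The relation -/

/-- the duads `{1, 2}` and `g{1, 2}` are disjoint and not in a common hexad -/
def c160 (g : Equiv.Perm GolayPt) : Prop :=
  T (val g 1) ≠ 5 ∧ T (val g 2) ≠ 5 ∧ T (val g 1) ≠ T (val g 2)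

theorem of_not_c160 {g : Equiv.Perm GolayPt} (hg : g ∈ Spor.M22) (h : ¬ c160 g) :
    ∃ x ∈ W, x ≠ 1 ∧ Nrm (g⁻¹ * x * g) W := by
  have k0 : (pts.all fun i => pts.all fun j => (!Nat.beq (T i) 5 && (!Nat.beq (T j) 5 &&
      !Nat.beq (T i) (T j))) || WL.any fun P => !weq [P] [] && (Nat.beq (papp P i) i &&
      Nat.beq (papp P j) j)) = true := by decide +kernel
  have k1 := List.all_eq_true.1 (List.all_eq_true.1 k0 _ (mem_pts (val_lt g 1))) _
    (mem_pts (val_lt g 2))
  rw [Bool.or_eq_true] at k1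
  rcases k1 with k1 | k1
  · exfalso
    apply h
    rw [Bool.and_eq_true, Bool.and_eq_true, Bool.not_eq_true', Bool.not_eq_true',
      Bool.not_eq_true'] at k1
    refine ⟨fun e => ?_, fun e => ?_, fun e => ?_⟩
    · rw [e] at k1
      exact absurd k1.1 (by decide)
    · rw [e] at k1
      exact absurd k1.2.1 (by decide)
    · rw [e, Nat.beq_refl] at k1
      exact absurd k1.2.2 (by decide)
  · obtain ⟨P, hP, k2⟩ := List.any_eq_true.1 k1
    rw [Bool.and_eq_true, Bool.and_eq_true, Bool.not_eq_true'] at k2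
    obtain ⟨k3, k4, k5⟩ := k2
    have hPW : pm P ∈ W := ⟨P, hP, rfl⟩
    have hp := pW hP
    refine ⟨pm P, hPW, ?_, ?_⟩
    · intro e
      apply pr_ne (l := [P]) (m := []) (okl1 hp) rfl k3
      rw [pr_one, pr_nil, e]
    · have key : ∀ i, i < 24 → papp P (val g i) = val g i → val (g⁻¹ * pm P * g) i = i := by
        intro i hi e
        rw [val_mul, val_mul, val_pm hp (val_lt g i), e, ← val_mul, inv_mul_cancel, val_one hi]
      exact nrm_of_duad (mul_mem (mul_mem (inv_mem hg) (W_le22 hPW)) hg)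
        (Or.inl ⟨key 1 (by norm_num) (Nat.eq_of_beq_eq_true k4),
          key 2 (by norm_num) (Nat.eq_of_beq_eq_true k5)⟩)

end Cfsg.Agent.Omega.EH3.M22.Perm
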