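import Cfsg.Agent.Omega.EH3.M22.Gram

/-!
# EH3, row `M22`: elementary abelian subgroups of order at least 32 of `M22:2` are conjugate to `P` (helper969)
-/

set_option autoImplicit false

namespace Cfsg.Agent.Omega.EH3.M22.Sub32

open Cfsg Cfsg.Agent.KFacts.MM.Sub Cfsg.Agent.KFacts.MM.OutP Cfsg.Agent.KFacts.MM.OutS
open Cfsg.Agent.J4Type.Aut22 (D22 mem_D22_iff M22_le_D22 mem_M22_iff_D22 card_D22)
open Cfsg.Agent.OddHalf.MM (Nrm Cen El)
open Subgroup

/-- a 2-subgroup of `M22:2` is conjugate to a subgroup of `SA` -/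
theorem exists_conj_SA {E : Subgroup (Equiv.Perm GolayPt)} (hE : E ≤ D22) (h2 : IsPGroup 2 E) :
    ∃ g ∈ D22, ∀ x ∈ E, g * x * g⁻¹ ∈ SA := by
  have : Fact (Nat.Prime 2) := ⟨Nat.prime_two⟩
  have hE2 : IsPGroup 2 (E.subgroupOf D22) := h2.comap_of_injective D22.subtype D22.subtype_injective
  have hS2 : IsPGroup 2 (SA.subgroupOf D22) :=
    isPGroup_SA.comap_of_injective D22.subtype D22.subtype_injective
  obtain ⟨Q1, hQ1⟩ := hE2.exists_le_sylow
  obtain ⟨Q2, hQ2⟩ := hS2.exists_le_sylow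
  have hQ2' : (Q2 : Subgroup D22) = SA.subgroupOf D22 := by
    symm
    apply eq_of_le_of_card_ge hQ2
    have h3 := card_le_of_two card_D22 Q2.isPGroup'
    rw [Nat.card_congr (subgroupOfEquivOfLe SA_le).toEquiv, card_SA]
    exact h3
  obtain ⟨g, hg⟩ := MulAction.exists_smul_eq D22 Q1 Q2
  refine ⟨g, g.2, fun x hx => ?_⟩
  have h4 : (⟨x, hE hx⟩ : D22) ∈ (Q1 : Subgroup D22) := hQ1 hx
  have h5 : g * ⟨x, hE hx⟩ * g⁻¹ ∈ (Q2 : Subgroup D22) := by
    rw [← hg, Sylow.smul_def, Sylow.pointwise_smul_def]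
    exact Subgroup.smul_mem_pointwise_smul _ (MulAut.conj g) _ h4
  rw [hQ2'] at h5
  exact h5

theorem exists_conj_P {E : Subgroup (Equiv.Perm GolayPt)} (hE : E ≤ D22) (hel : El E)
    (h32 : 32 ≤ Nat.card E) : ∃ g ∈ D22, ∀ x, x ∈ E ↔ g * x * g⁻¹ ∈ P := by
  have h2 : IsPGroup 2 E := by
    intro x
    refine ⟨1, ?_⟩
    apply Subtype.ext
    show (x : Equiv.Perm GolayPt) ^ (2 ^ 1) = 1
    rw [pow_one, pow_two]
    exact hel x x.2
  obtain ⟨g, hg, h⟩ := exists_conj_SA hE h2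
  have hmap : E.map (MulAut.conj g).toMonoidHom = P := by
    apply el32
    · rintro _ ⟨x, hx, rfl⟩
      exact h x hx
    · rintro _ ⟨x, hx, rfl⟩
      show g * x * g⁻¹ * (g * x * g⁻¹) = 1
      have e : g * x * g⁻¹ * (g * x * g⁻¹) = g * (x * x) * g⁻¹ := by group
      rw [e, hel x hx]
      group
    · rwa [card_map_of_injective (MulAut.conj g).injective]
  refine ⟨g, hg, fun x => ?_⟩
  rw [← hmap]
  constructor
  · intro hx
    exact ⟨x, hx, rfl⟩
  · rintro ⟨y, hy, e⟩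
    have e' : g * y * g⁻¹ = g * x * g⁻¹ := e
    rw [← mul_left_cancel (mul_right_cancel e')]
    exact hy

theorem card_le_32 {E : Subgroup (Equiv.Perm GolayPt)} (hE : E ≤ D22) (hel : El E) :
    Nat.card E ≤ 32 := by
  by_contra hcon
  obtain ⟨g, -, h⟩ := exists_conj_P hE hel (by omega)
  have h1 : Nat.card E ≤ Nat.card P := by
    apply Nat.card_le_card_of_injective (fun x : E => (⟨g * x * g⁻¹, (h x).1 x.2⟩ : P))
    intro x y hxy
    have e : g * (x : Equiv.Perm GolayPt) * g⁻¹ = g * y * g⁻¹ := congrArg Subtype.val hxy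
    exact Subtype.ext (mul_left_cancel (mul_right_cancel e))
  rw [cardP] at h1
  omega

end Cfsg.Agent.Omega.EH3.M22.Sub32
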