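import Cfsg.Agent.Omega.EH3.M22.Sub32
import Cfsg.Agent.Omega.EH3.M22.Irr

/-!
# EH3, row `M22`: the homomorphism `τ : H → D22 = Aut(M22)` (helper969)
-/

set_option autoImplicit false

namespace Cfsg.Agent.Omega.EH3.M22.Tau

open Cfsg Subgroup
open Cfsg.Agent.J4Type.Aut22 (D22 mem_D22_iff M22_le_D22)

/-- automorphisms of the quotient by the centre -/
noncomputable def κ (X : Type*) [Group X] : MulAut X →* MulAut (X ⧸ center X) where
  toFun α := QuotientGroup.congr (center X) (center X) α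
    (Subgroup.characteristic_iff_map_eq.1 inferInstance α)
  map_one' := by
    apply MulEquiv.ext
    intro x
    induction x using QuotientGroup.induction_on with
    | H x => rfl
  map_mul' α β := by
    apply MulEquiv.ext
    intro x
    induction x using QuotientGroup.induction_on with
    | H x => rfl

theorem κ_apply {X : Type*} [Group X] (α : MulAut X) (x : X) :
    κ X α (x : X ⧸ center X) = ((α x : X) : X ⧸ center X) := rfl

section

variable {H : Type*} [Group H] {L : Subgroup H}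

/-- an element acting trivially on `L / Z(L)` centralises `L` -/
theorem comm_of_quot [hn : L.Normal] (perf : ⁅L, L⁆ = L) {h : H}
    (hq : κ L (MulAut.conjNormal h) = 1) : ∀ l ∈ L, h * l = l * h := by
  have hc : ∀ l ∈ L, ∀ y ∈ L, y * (h * l * h⁻¹ * l⁻¹) = h * l * h⁻¹ * l⁻¹ * y := by
    intro l hl y hy
    have h1 : κ L (MulAut.conjNormal h) ((⟨l, hl⟩ : L) : L ⧸ center L) = ((⟨l, hl⟩ : L) : L ⧸ center L) := by
      rw [hq]
      rfl
    rw [κ_apply] at h1
    have h2 := QuotientGroup.eq.1 h1.symm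
    have h3 := mem_center_iff.1 h2 (⟨l, hl⟩ * ⟨y, hy⟩ * ⟨l, hl⟩⁻¹)
    have h4 : l * y * l⁻¹ * (l⁻¹ * (h * l * h⁻¹)) = l⁻¹ * (h * l * h⁻¹) * (l * y * l⁻¹) :=
      congrArg Subtype.val h3
    have h5 : ∀ x ∈ L, x * (l⁻¹ * (h * l * h⁻¹)) = l⁻¹ * (h * l * h⁻¹) * x := by
      intro x hx
      exact congrArg Subtype.val (mem_center_iff.1 h2 ⟨x, hx⟩)
    have h6 : h * l * h⁻¹ * l⁻¹ = l⁻¹ * (h * l * h⁻¹) := by
      have h7 := h5 l⁻¹ (inv_mem hl)
      have h8 := h5 l hl
      calc h * l * h⁻¹ * l⁻¹ = l * (l⁻¹ * (h * l * h⁻¹)) * l⁻¹ := by group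
        _ = l⁻¹ * (h * l * h⁻¹) * l * l⁻¹ := by rw [h8]
        _ = l⁻¹ * (h * l * h⁻¹) := by group
    rw [h6]
    exact h5 y hy
  -- the centraliser of `h` in `L`
  let M : Subgroup H := L ⊓ centralizer ({h} : Set H)
  have hM : L ≤ M := by
    rw [← perf, commutator_le]
    intro l hl l' hl'
    rw [Subgroup.mem_inf, commutatorElement_def]
    refine ⟨?_, ?_⟩
    · exact mul_mem (mul_mem (mul_mem hl hl') (inv_mem hl)) (inv_mem hl')
    · rw [mem_centralizer_singleton_iff]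
      have k1 := hc l hl
      have k2 := hc l' hl'
      have e1 : h * l * h⁻¹ = h * l * h⁻¹ * l⁻¹ * l := by group
      have e2 : h * l' * h⁻¹ = h * l' * h⁻¹ * l'⁻¹ * l' := by group
      have key : h * (l * l' * l⁻¹ * l'⁻¹) * h⁻¹ = l * l' * l⁻¹ * l'⁻¹ := by
        have q1 := k1 l' hl'
        have q2 := k2 l⁻¹ (inv_mem hl)
        have q3 : (h * l * h⁻¹ * l⁻¹) * (h * l' * h⁻¹ * l'⁻¹) = (h * l' * h⁻¹ * l'⁻¹) * (h * l * h⁻¹ * l⁻¹) := by
          apply k2
          exact mul_mem (hn.conj_mem l hl h) (inv_mem hl)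
        generalize h * l * h⁻¹ * l⁻¹ = c at *
        generalize h * l' * h⁻¹ * l'⁻¹ = c' at *
        calc h * (l * l' * l⁻¹ * l'⁻¹) * h⁻¹
            = (h * l * h⁻¹) * (h * l' * h⁻¹) * (h * l * h⁻¹)⁻¹ * (h * l' * h⁻¹)⁻¹ := by group
          _ = (c * l) * (c' * l') * (c * l)⁻¹ * (c' * l')⁻¹ := by rw [e1, e2]
          _ = c * l * c' * l' * l⁻¹ * c⁻¹ * l'⁻¹ * c'⁻¹ := by group
          _ = l * l' * l⁻¹ * l'⁻¹ := by
            have r1 : c * l = l * c := (k1 l hl).symm
            have r2 : c' * l' = l' * c' := (k2 l' hl').symm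
            have r3 : c * l' = l' * c := q1.symm
            have r4 : c' * l⁻¹ = l⁻¹ * c' := q2.symm
            have r5 : c⁻¹ * l'⁻¹ = l'⁻¹ * c⁻¹ := by
              rw [← mul_inv_rev, ← mul_inv_rev, r3]
            calc c * l * c' * l' * l⁻¹ * c⁻¹ * l'⁻¹ * c'⁻¹
                = l * c * (c' * l') * l⁻¹ * (c⁻¹ * l'⁻¹) * c'⁻¹ := by rw [r1]; group
              _ = l * c * (l' * c') * l⁻¹ * (l'⁻¹ * c⁻¹) * c'⁻¹ := by rw [r2, r5]
              _ = l * (c * l') * (c' * l⁻¹) * l'⁻¹ * c⁻¹ * c'⁻¹ := by group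
              _ = l * (l' * c) * (l⁻¹ * c') * l'⁻¹ * c⁻¹ * c'⁻¹ := by rw [r3, r4]
              _ = l * l' * (c * l⁻¹) * (c' * l'⁻¹) * c⁻¹ * c'⁻¹ := by group
              _ = l * l' * (l⁻¹ * c) * (l'⁻¹ * c') * c⁻¹ * c'⁻¹ := by
                have r6 : c * l⁻¹ = l⁻¹ * c := by
                  rw [mul_inv_eq_iff_eq_mul, mul_assoc, r1, inv_mul_cancel_left]
                have r7 : c' * l'⁻¹ = l'⁻¹ * c' := by
                  rw [mul_inv_eq_iff_eq_mul, mul_assoc, r2, inv_mul_cancel_left]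
                rw [r6, r7]
              _ = l * l' * l⁻¹ * (c * l'⁻¹) * c' * c⁻¹ * c'⁻¹ := by group
              _ = l * l' * l⁻¹ * (l'⁻¹ * c) * c' * c⁻¹ * c'⁻¹ := by
                have r8 : c * l'⁻¹ = l'⁻¹ * c := by
                  rw [mul_inv_eq_iff_eq_mul, mul_assoc, r3, inv_mul_cancel_left]
                rw [r8]
              _ = l * l' * l⁻¹ * l'⁻¹ * (c * c') * c⁻¹ * c'⁻¹ := by group
              _ = l * l' * l⁻¹ * l'⁻¹ := by rw [q3]; group
      rw [mul_inv_eq_iff_eq_mul] at key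
      exact key.symm
  intro l hl
  have h9 := (Subgroup.mem_inf.1 (hM hl)).2
  rw [mem_centralizer_singleton_iff] at h9
  exact h9.symm

theorem exists_tau [hn : L.Normal] (perf : ⁅L, L⁆ = L) (iso : Spor.IsoM22 (L ⧸ center L)) :
    ∃ τ : H →* Equiv.Perm GolayPt, (∀ h, τ h ∈ D22) ∧ (∀ h, τ h = 1 ↔ ∀ l ∈ L, h * l = l * h) ∧
      (∀ l ∈ L, τ l ∈ Spor.M22) ∧ ∀ m ∈ Spor.M22, ∃ l ∈ L, τ l = m := by
  obtain ⟨ι, hin, hr, hc⟩ := KFacts.MM.OutAut.exists_iota iso
  have hconj : ∀ l : L, κ L (MulAut.conjNormal (l : H)) = MulAut.conj (l : L ⧸ center L) := by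
    intro l
    apply MulEquiv.ext
    intro x
    induction x using QuotientGroup.induction_on with
    | H x =>
      rw [κ_apply, MulAut.conj_apply, ← QuotientGroup.mk_mul, ← QuotientGroup.mk_inv,
        ← QuotientGroup.mk_mul]
      congr 1
  refine ⟨ι.comp ((κ L).comp (MulAut.conjNormal : H →* MulAut L)), ?_, ?_, ?_, ?_⟩
  · intro h
    rw [← hr]
    exact ⟨_, rfl⟩
  · intro h
    constructor
    · intro h1
      exact comm_of_quot perf (hin (h1.trans (map_one ι).symm))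
    · intro h1
      have h2 : κ L (MulAut.conjNormal h) = 1 := by
        have h3 : (MulAut.conjNormal h : MulAut L) = 1 := by
          apply MulEquiv.ext
          intro x
          apply Subtype.ext
          rw [MulAut.conjNormal_apply, h1 x x.2, mul_inv_cancel_right]
          rfl
        rw [h3, map_one]
      show ι (κ L (MulAut.conjNormal h)) = 1
      rw [h2, map_one]
  · intro l hl
    have h1 : κ L (MulAut.conjNormal l) ∈ (Spor.M22).comap ι := by
      rw [hc]
      exact ⟨_, (hconj ⟨l, hl⟩).symm⟩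
    exact h1
  · intro m hm
    have h1 : m ∈ ι.range := by
      rw [hr]
      exact M22_le_D22 hm
    obtain ⟨β, rfl⟩ := h1
    have h2 : β ∈ (MulAut.conj : (L ⧸ center L) →* MulAut (L ⧸ center L)).range := by
      rw [← hc]
      exact hm
    obtain ⟨x, rfl⟩ := h2
    induction x using QuotientGroup.induction_on with
    | H x =>
      refine ⟨x, x.2, ?_⟩
      show ι (κ L (MulAut.conjNormal (x : H))) = _
      rw [hconj]

end

end Cfsg.Agent.Omega.EH3.M22.Tau
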